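import Groth.Agent.EtRam46.Tower
import Mathlib.NumberTheory.RamificationInertia.Galois
import Mathlib.FieldTheory.PurelyInseparable.Basic
import Mathlib.FieldTheory.Galois.IsGaloisGroup
import Mathlib.RingTheory.DedekindDomain.IntegralClosure
import Mathlib.RingTheory.RamificationInertia.Ramification

/-!
# Galois extensions of degree prime to the residue characteristic are tame
-/

set_option linter.style.haveILetI false
set_option linter.unusedSectionVars false

namespace Groth.Agent.EtRam46

open IsLocalRing Polynomial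

universe u

theorem natCast_ne_zero_of_dvd {R : Type*} [CommRing R] {m n : ℕ} (h : m ∣ n) (hn : (n : R) ≠ 0) :
    (m : R) ≠ 0 := fun h0 => by
  obtain ⟨d, rfl⟩ := h
  rw [Nat.cast_mul, h0, zero_mul] at hn
  exact hn rfl

/-- An extension of degree invertible in the field is separable. -/
theorem isSeparable_of_finrank_ne_zero (F E : Type*) [Field F] [Field E] [Algebra F E] [FiniteDimensional F E]
    (h : (Module.finrank F E : F) ≠ 0) : Algebra.IsSeparable F E := by
  rw [isSeparable_iff_finInsepDegree_eq_one]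
  obtain ⟨q, hq⟩ := ExpChar.exists F
  haveI := hq
  obtain ⟨n, hn⟩ := finInsepDegree_eq_pow F E q
  rcases hq with _ | ⟨hp⟩
  · rw [hn, one_pow]
  · rcases eq_or_ne n 0 with rfl | hn0
    · rw [hn, pow_zero]
    · refine absurd ?_ (natCast_ne_zero_of_dvd (Dvd.intro_left _ (Field.finSepDegree_mul_finInsepDegree F E)) h)
      rw [hn, Nat.cast_pow, CharP.cast_eq_zero, zero_pow hn0]

variable {A : Type u} [CommRing A] [IsDomain A] [IsDiscreteValuationRing A] (K : Type u) [Field K]
  [Algebra A K] [IsFractionRing A K] {L : Type u} [Field L] [Algebra K L] [FiniteDimensional K L] [IsGalois K L]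
  {V : ValuationSubring L}

/-- A Galois extension of degree prime to the residue characteristic is tame at every place. -/
theorem tame_of_galois (hd : EtRam.Dominates A ((algebraMap K L).comp (algebraMap A K)) V)
    (hn : (Module.finrank K L : ResidueField A) ≠ 0) : Tame V ((algebraMap K L).comp (algebraMap A K)) := by
  classical
  haveI := isDVR_of_finite K hd
  set g := (algebraMap K L).comp (algebraMap A K) with hg
  letI : Algebra A L := g.toAlgebra
  haveI : IsScalarTower A K L := IsScalarTower.of_algebraMap_eq' rfl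
  let B := integralClosure A L
  haveI : IsFractionRing B L := IsIntegralClosure.isFractionRing_of_finite_extension A K L B
  haveI : IsDedekindDomain B := IsIntegralClosure.isDedekindDomain A K L B
  haveI : Module.Finite A B := IsIntegralClosure.finite A K L B
  haveI : IsGaloisGroup Gal(L/K) A B := IsGaloisGroup.of_isFractionRing Gal(L/K) A B K L
  have hinj : Function.Injective g := (algebraMap K L).injective.comp (IsFractionRing.injective A K)
  haveI : FaithfulSMul A B := (faithfulSMul_iff_algebraMap_injective A B).2 fun x y h =>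
    hinj (congrArg Subtype.val h)
  have hBV : ∀ b : B, (b : L) ∈ V := fun b => by
    letI := (g.codRestrict V hd.1).toAlgebra
    haveI : IsScalarTower A V L := IsScalarTower.of_algebraMap_eq fun a => rfl
    obtain ⟨y, hy⟩ := IsIntegrallyClosed.isIntegral_iff.1 ((show IsIntegral A (b : L) from b.2).tower_top (A := V))
    exact hy ▸ y.2
  let iB : B →+* V := (algebraMap B L).codRestrict V.toSubring hBV
  let P : Ideal B := (maximalIdeal V).comap iB
  haveI : P.IsPrime := Ideal.comap_isPrime iB _
  have hP : ∀ b : B, b ∈ P ↔ V.valuation (b : L) < 1 := fun b => V.valuation_lt_one_iff (iB b)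
  haveI : P.LiesOver (maximalIdeal A) :=
    ⟨Ideal.ext fun a => ((val_lt_one_iff hd a).symm.trans (hP (algebraMap A B a)).symm)⟩
  haveI : P.IsMaximal := Ideal.isMaximal_of_isIntegral_of_isMaximal_comap (R := A) P
    (by
      show (P.under A).IsMaximal
      rw [← Ideal.over_def P (maximalIdeal A)]; infer_instance)
  obtain ⟨π, hπ⟩ := IsDiscreteValuationRing.exists_irreducible A
  have hm0 : (maximalIdeal A) ≠ ⊥ := IsDiscreteValuationRing.not_a_field A
  have hP0 : P ≠ ⊥ := fun h => by
    have : algebraMap A B π ∈ P := (hP _).2 (hd.2 π ((mem_maximalIdeal _).2 hπ.1))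
    rw [h, Ideal.mem_bot] at this
    exact hπ.ne_zero (FaithfulSMul.algebraMap_injective A B (this.trans (map_zero _).symm))
  -- the fundamental identity
  have key := Ideal.ncard_primesOver_mul_ramificationIdxIn_mul_inertiaDegIn (maximalIdeal A) B Gal(L/K)
  rw [Ideal.ramificationIdxIn_eq_ramificationIdx (maximalIdeal A) P Gal(L/K),
    Ideal.inertiaDegIn_eq_inertiaDeg (maximalIdeal A) P Gal(L/K), IsGalois.card_aut_eq_finrank] at key
  set e := P.ramificationIdx A with he
  have he0 : (e : ResidueField A) ≠ 0 := natCast_ne_zero_of_dvd (key ▸ Dvd.dvd.mul_left (dvd_mul_right e _) _) hn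
  have hf0 : (P.inertiaDeg A : ResidueField A) ≠ 0 :=
    natCast_ne_zero_of_dvd (key ▸ Dvd.dvd.mul_left (dvd_mul_left (P.inertiaDeg A) _) _) hn
  -- the localisation at `P`
  let Q := Localization.AtPrime P
  haveI hQ : IsDiscreteValuationRing Q :=
    IsLocalization.AtPrime.isDiscreteValuationRing_of_dedekind_domain B hP0 Q
  have hunit : ∀ s : P.primeCompl, IsUnit (algebraMap B L s) := fun s =>
    isUnit_iff_ne_zero.2 fun h => s.2 (by
      show (s : B) ∈ P
      rw [IsFractionRing.injective B L (h.trans (map_zero _).symm)]; exact P.zero_mem)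
  let ι : Q →+* L := IsLocalization.lift hunit
  have hι : ∀ b, ι (algebraMap B Q b) = (b : L) := IsLocalization.lift_eq hunit
  have hs1 : ∀ s : P.primeCompl, V.valuation ((s : B) : L) = 1 := fun s =>
    le_antisymm ((V.valuation_le_one_iff _).2 (hBV s)) (not_lt.1 fun h => s.2 ((hP s).2 h))
  have hιV : ∀ c, ι c ∈ V := fun c => by
    obtain ⟨⟨b, s⟩, hbs⟩ := IsLocalization.surj P.primeCompl c
    have := congrArg ι hbs
    rw [map_mul, hι, hι] at this
    rw [← V.valuation_le_one_iff]
    have h2 := congrArg V.valuation this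
    rw [map_mul, hs1, mul_one] at h2
    rw [h2]; exact (V.valuation_le_one_iff _).2 (hBV b)
  have hιm : ∀ c ∈ maximalIdeal Q, V.valuation (ι c) < 1 := fun c hc => by
    obtain ⟨⟨b, s⟩, hbs⟩ := IsLocalization.surj P.primeCompl c
    have hb : algebraMap B Q b ∈ maximalIdeal Q := by rw [← hbs]; exact Ideal.mul_mem_right _ _ hc
    rw [IsLocalization.AtPrime.to_map_mem_maximal_iff Q P] at hb
    have := congrArg (V.valuation ∘ ι) hbs
    simp only [Function.comp, map_mul, hι, hs1, mul_one] at this
    rw [this]
    exact (hP b).1 hb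
  obtain ⟨ϖ, hϖ⟩ := IsDiscreteValuationRing.exists_irreducible Q
  have hϖ1 : V.valuation (ι ϖ) < 1 := hιm ϖ ((mem_maximalIdeal _).2 hϖ.1)
  have hιinj : Function.Injective ι :=
    (IsLocalization.lift_injective_iff hunit).2 fun x y => ⟨fun h => by
      rw [IsLocalization.injective Q P.primeCompl_le_nonZeroDivisors h], fun h => by
      rw [IsFractionRing.injective B L h]⟩
  have hF : Subfield.closure (ι.range : Set L) = ⊤ := by
    rw [eq_top_iff]
    intro x _
    obtain ⟨b, d, hd0, rfl⟩ := IsFractionRing.div_surjective (A := B) x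
    exact div_mem (Subfield.subset_closure ⟨algebraMap B Q b, hι b⟩)
      (Subfield.subset_closure ⟨algebraMap B Q d, hι d⟩)
  obtain ⟨hu, hres⟩ := core ι.range (by rintro _ ⟨c, rfl⟩; exact hιV c) hF (t := ι ϖ) ⟨ϖ, rfl⟩ hϖ1
    (fun h => hϖ.ne_zero (hιinj (h.trans (map_zero ι).symm))) fun c hc => by
      obtain ⟨c, rfl⟩ := hc
      by_cases h : IsUnit c
      · obtain ⟨w, rfl⟩ := h
        refine ⟨ι ↑w⁻¹, ⟨_, rfl⟩, 0, zero_mem _, ?_⟩
        rw [← map_mul, ← Units.val_mul, mul_inv_cancel, Units.val_one, map_one, sub_self, mul_zero, mul_zero]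
      · have hc' : c ∈ maximalIdeal Q := (mem_maximalIdeal _).2 h
        rw [hϖ.maximalIdeal_eq, Ideal.mem_span_singleton] at hc'
        obtain ⟨r, rfl⟩ := hc'
        exact ⟨0, zero_mem _, ι r, ⟨r, rfl⟩, by rw [map_mul, mul_zero, sub_zero, mul_one]⟩
  -- the index
  have hidx : Idx V g e := by
    have hπ0 : algebraMap B Q (algebraMap A B π) ≠ 0 := fun h => hπ.ne_zero
      (FaithfulSMul.algebraMap_injective A B
        ((IsLocalization.injective Q P.primeCompl_le_nonZeroDivisors (h.trans (map_zero _).symm)).trans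
          (map_zero _).symm))
    obtain ⟨n, w, hw⟩ := IsDiscreteValuationRing.eq_unit_mul_pow_irreducible hπ0 hϖ
    have hlen : e = n := by
      rw [he, Ideal.ramificationIdx_eq (maximalIdeal A) P,
        show (maximalIdeal A).map (algebraMap A Q) = maximalIdeal Q ^ n by
          rw [hπ.maximalIdeal_eq, Ideal.map_span, Set.image_singleton, hϖ.maximalIdeal_eq,
            Ideal.span_singleton_pow, IsScalarTower.algebraMap_apply A B Q, hw,
            Ideal.span_singleton_mul_left_unit w.isUnit],
        hQ.length_quotient_pow_maximalIdeal, ENat.toNat_natCast]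
    refine ⟨π, ι ϖ, hπ, hu, ?_⟩
    have hwv : V.valuation (ι w) = 1 := by
      have h1 : ι w * ι ↑w⁻¹ = 1 := by rw [← map_mul, w.mul_inv, map_one]
      refine val_eq_one (hιV _) ?_ (left_ne_zero_of_mul_eq_one h1)
      rw [inv_eq_of_mul_eq_one_right h1]; exact hιV _
    rw [hlen, show g π = ι (algebraMap B Q (algebraMap A B π)) from (hι (algebraMap A B π)).symm, hw, map_mul, map_mul,
      map_pow, map_pow, hwv, one_mul]
  refine ⟨?_, e, hidx, he0⟩
  -- separability
  letI : Field (B ⧸ P) := Ideal.Quotient.field P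
  letI : Algebra (ResidueField A) (B ⧸ P) := (inferInstance : Algebra (A ⧸ maximalIdeal A) (B ⧸ P))
  haveI : IsScalarTower A (ResidueField A) (B ⧸ P) := IsScalarTower.of_algebraMap_eq fun a => rfl
  haveI : Module.Finite A (B ⧸ P) :=
    Module.Finite.of_surjective (Ideal.Quotient.mkₐ A P).toLinearMap Ideal.Quotient.mk_surjective
  haveI : Module.Finite (ResidueField A) (B ⧸ P) := Module.Finite.of_restrictScalars_finite A _ _
  have hsep : Algebra.IsSeparable (ResidueField A) (B ⧸ P) := by
    refine isSeparable_of_finrank_ne_zero _ _ ?_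
    rw [Ideal.inertiaDeg_eq_of_isMaximal (maximalIdeal A) P] at hf0
    exact hf0
  intro x hx
  obtain ⟨_, ⟨c, rfl⟩, hxc⟩ := hres x hx
  obtain ⟨⟨b, s⟩, hbs⟩ := IsLocalization.surj P.primeCompl c
  obtain ⟨d, m, hm, hdm⟩ := (inferInstance : P.IsMaximal).exists_inv s.2
  obtain ⟨Pb, hPb, -, hPm⟩ := lifts_and_natDegree_eq_and_monic
    (map_surjective _ residue_surjective (minpoly (ResidueField A) (Ideal.Quotient.mk P (b * d))))
    (minpoly.monic (hsep.isSeparable' _).isIntegral)
  refine ⟨Pb, hPm, ?_, ?_⟩
  · rw [hPb]; exact hsep.isSeparable' _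
  · have h0 : Ideal.Quotient.mk P (aeval (b * d) Pb) = 0 := by
      rw [← Ideal.Quotient.mkₐ_eq_mk A P, ← aeval_algHom_apply]
      have : aeval (Ideal.Quotient.mk P (b * d)) (Pb.map (residue A)) = 0 := by rw [hPb, minpoly.aeval]
      rwa [show residue A = algebraMap A (ResidueField A) from rfl, aeval_map_algebraMap] at this
    rw [Ideal.Quotient.eq_zero_iff_mem, hP] at h0
    have hxb : V.valuation (x - ((b * d : B) : L)) < 1 := by
      have h3 : ι c - ((b * d : B) : L) = ι c * (m : L) := by
        rw [← hι (b * d), map_mul (algebraMap B Q), ← hbs, ← hι m,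
          eq_sub_of_add_eq' hdm, map_sub, map_one, map_sub, map_mul, map_mul, map_mul, map_one, map_mul]
        ring
      refine lt_of_le_of_lt (le_of_eq_of_le (congrArg _ (sub_add_sub_cancel x (ι c) _).symm)
        (V.valuation.map_add _ _)) (max_lt hxc ?_)
      rw [h3, map_mul]
      exact lt_of_le_of_lt (mul_le_of_le_one_left' ((V.valuation_le_one_iff _).2 (hιV c))) ((hP m).1 hm)
    let b' : V := iB (b * d)
    let xv : V := ⟨x, hx⟩
    have hr : residue V xv = residue V b' := sub_eq_zero.1 (by
      rw [← map_sub, residue_eq_zero_iff]; exact hxb)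
    letI : Algebra A V := (g.codRestrict V hd.1).toAlgebra
    haveI : IsLocalHom (algebraMap A V) := ⟨fun a ha => by
      by_contra hn
      exact (hd.2 a ((mem_maximalIdeal _).2 hn)).ne ((V.valuation_eq_one_iff _).1 ha)⟩
    refine (residue_eval (g := g) (fun a => rfl) xv Pb).2 ?_
    rw [hr]
    refine (residue_eval (g := g) (fun a => rfl) b' Pb).1 ?_
    rw [show Pb.eval₂ g ((b' : V) : L) = ((aeval (b * d) Pb : B) : L) from
      (aeval_algHom_apply B.val (b * d) Pb)]
    exact h0

end Groth.Agent.EtRam46
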