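import Groth.Agent.EtRam46.Tower

/-!
# Adjoining roots, and base change of tame and unramified extensions
-/

set_option linter.style.haveILetI false
set_option linter.unusedSectionVars false

namespace Groth.Agent.EtRam46

open IsLocalRing Polynomial

universe u

/-- A valuation subring extends along a field homomorphism. -/
theorem exists_comap_eq {E M : Type u} [Field E] [Field M] (f : E →+* M) (V : ValuationSubring E) :
    ∃ W : ValuationSubring M, W.comap f = V := by
  let R : Subring M := V.toSubring.map f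
  let e : V →+* R := RingHom.codRestrict (f.comp V.subtype) R fun x => ⟨x, x.2, rfl⟩
  have he : Function.Bijective e := ⟨fun a b h => Subtype.ext (f.injective (congrArg Subtype.val h)),
    fun ⟨y, x, hx, h⟩ => ⟨⟨x, hx⟩, Subtype.ext h⟩⟩
  have hI : (maximalIdeal V).map e ≠ ⊤ := fun h => by
    have h1 : e 1 ∈ (maximalIdeal V).map e := h ▸ Submodule.mem_top
    obtain ⟨a, ha, hae⟩ := (Ideal.mem_map_iff_of_surjective e he.2).1 h1
    exact (mem_maximalIdeal _).1 ha (he.1 hae ▸ isUnit_one)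
  obtain ⟨W, hW, hm⟩ := Ideal.image_subset_nonunits_valuationSubring _ hI
  refine ⟨W, SetLike.ext fun x => ⟨fun hx => ?_, fun hx => hW ⟨x, hx, rfl⟩⟩⟩
  by_contra hn
  have hinv : x⁻¹ ∈ V := (V.mem_or_inv_mem x).resolve_left hn
  have hnu : (⟨x⁻¹, hinv⟩ : V) ∈ maximalIdeal V := by
    rw [V.valuation_lt_one_iff, ← ValuationSubring.mem_nonunits_iff, ValuationSubring.mem_nonunits_iff_or, inv_inv]
    exact Or.inr hn
  have h1 : f x⁻¹ ∈ W.nonunits := hm ⟨_, Ideal.mem_map_of_mem e hnu, rfl⟩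
  rw [map_inv₀, ValuationSubring.inv_mem_nonunits_iff] at h1
  rcases h1 with h1 | h1
  · exact hn (by rw [(map_eq_zero f).1 h1]; exact V.zero_mem)
  · exact h1 hx

variable {M : Type u} [Field M] {W : ValuationSubring M}
  {B : Type u} [CommRing B] [IsDomain B] [IsDiscreteValuationRing B] {i : B →+* M}

/-- **Adjoining a root of order prime to the residue characteristic.** -/
theorem root [IsDiscreteValuationRing W] (hd : EtRam.Dominates B i W) (hi : Function.Injective i)
    {z : M} (hF : Subfield.closure (Set.range i ∪ {z}) = ⊤) {e : ℕ} (he : (e : ResidueField B) ≠ 0)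
    {ϖ : B} (hϖ : Irreducible ϖ) (u : Bˣ) (d : ℕ) (hz : z ^ e = i ((u : B) * ϖ ^ d)) :
    Sep W i ∧ Idx W i (e / e.gcd d) := by
  have he0 : e ≠ 0 := fun h => he (by simp [h])
  set g := e.gcd d
  have hg0 : g ≠ 0 := (Nat.gcd_pos_of_pos_left d (Nat.pos_of_ne_zero he0)).ne'
  obtain ⟨e', d', hcop, hee, hdd⟩ := Nat.exists_coprime e d
  have hee' : e / g = e' := by rw [hee, Nat.mul_div_cancel _ (Nat.pos_of_ne_zero hg0)]
  rw [hee']
  have hg : (g : ResidueField B) ≠ 0 := fun h => he (by rw [hee, Nat.cast_mul, h, mul_zero])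
  have he'0 : e' ≠ 0 := by rintro rfl; exact he0 (by simpa using hee)
  obtain ⟨a, c, hac⟩ := Nat.Coprime.isCoprime hcop.symm
  have hw : i ϖ ≠ 0 := fun h => hϖ.ne_zero (hi (h.trans (map_zero i).symm))
  have hz0 : z ≠ 0 := by
    rintro rfl
    rw [zero_pow he0, map_mul, map_pow] at hz
    exact mul_ne_zero ((map_ne_zero_iff i hi).2 u.ne_zero) (pow_ne_zero d hw) hz.symm
  have hu1 : W.valuation (i u) = 1 := val_map_unit hd u
  have hu0 : i u ≠ 0 := (map_ne_zero_iff i hi).2 u.ne_zero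
  let y : M := z ^ e' / i ϖ ^ d'
  have hy : y ^ g = i u := by
    rw [div_pow, ← pow_mul, ← pow_mul, ← hee, ← hdd, hz, map_mul, map_pow]
    exact mul_div_cancel_right₀ _ (pow_ne_zero d hw)
  have hy0 : y ≠ 0 := by intro h; rw [h, zero_pow hg0] at hy; exact hu0 hy.symm
  have hy1 : W.valuation y = 1 := by
    have := congrArg W.valuation hy
    rw [map_pow, hu1] at this
    exact (pow_eq_one_iff.1 this).resolve_right hg0
  let t : M := z ^ a * i ϖ ^ c
  have ht : t ^ e' = y ^ a * i ϖ := by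
    have hsum : (d' : ℤ) * a + (e' : ℤ) * c = 1 := by linarith
    rw [mul_pow, ← zpow_natCast (z ^ a), ← zpow_natCast (i ϖ ^ c), ← zpow_mul, ← zpow_mul, div_zpow,
      ← zpow_natCast z, ← zpow_natCast (i ϖ) d', ← zpow_mul, ← zpow_mul, div_mul_eq_mul_div, eq_div_iff (zpow_ne_zero _ hw),
      mul_assoc, ← zpow_add₀ hw]
    conv_rhs => rw [← zpow_one (i ϖ), mul_comm (e' : ℤ) a]
    rw [show (c * (e' : ℤ) + (d' : ℤ) * a) = 1 by linarith]
  have hvt : W.valuation t ^ e' = W.valuation (i ϖ) := by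
    rw [← map_pow, ht, map_mul, map_zpow₀, hy1, one_zpow, one_mul]
  have hlt : W.valuation (i ϖ) < 1 := hd.2 ϖ ((mem_maximalIdeal _).2 hϖ.1)
  have ht0 : t ≠ 0 := mul_ne_zero (zpow_ne_zero _ hz0) (zpow_ne_zero _ hw)
  have ht1 : W.valuation t < 1 := by
    by_contra hn
    exact hlt.not_ge (hvt ▸ one_le_pow₀ (not_lt.1 hn))
  let S : Set M := {y, t}
  set C := Subring.closure (Set.range i ∪ S)
  have hiC : ∀ b, i b ∈ C := fun b => Subring.subset_closure (Or.inl ⟨b, rfl⟩)
  have hyC : y ∈ C := Subring.subset_closure (Or.inr (Or.inl rfl))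
  have htC : t ∈ C := Subring.subset_closure (Or.inr (Or.inr rfl))
  have hyinv : y⁻¹ ∈ C := by
    have h1 : y⁻¹ = y ^ (g - 1) * i ((u⁻¹ : Bˣ) : B) := by
      refine inv_eq_of_mul_eq_one_right ?_
      rw [← mul_assoc, ← pow_succ', Nat.sub_add_cancel (Nat.pos_of_ne_zero hg0), hy, ← map_mul, u.mul_inv, map_one]
    rw [h1]
    exact mul_mem (pow_mem hyC _) (hiC _)
  have hyz : ∀ n : ℤ, y ^ n ∈ C := by
    intro n
    rcases n with n | n
    · rw [Int.ofNat_eq_natCast, zpow_natCast]; exact pow_mem hyC n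
    · rw [zpow_negSucc, ← inv_pow]; exact pow_mem hyinv _
  obtain ⟨m, rfl⟩ := Nat.exists_eq_succ_of_ne_zero he'0
  obtain ⟨hu, hsep⟩ := core_gen hd S (by
      rintro s (rfl | rfl)
      · exact (W.valuation_le_one_iff _).1 hy1.le
      · exact mem_of_lt ht1) (by
      rw [eq_top_iff, ← hF, Subfield.closure_le]
      rintro x (hx | hx)
      · exact Subfield.subset_closure (Or.inl hx)
      rw [show x = z from hx]
      have hb : ∀ {s}, s ∈ Set.range i ∪ S → s ∈ Subfield.closure (Set.range i ∪ S) := fun hs => Subfield.subset_closure hs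
      have hz' : z = t ^ (d' : ℤ) * (y * i ϖ ^ (d' : ℤ)) ^ c * (i ϖ ^ (c * (d' : ℤ)))⁻¹ := by
        have hyd : y * i ϖ ^ (d' : ℤ) = z ^ ((m + 1 : ℕ) : ℤ) := by
          rw [zpow_natCast, zpow_natCast]; exact div_mul_cancel₀ _ (pow_ne_zero _ hw)
        rw [hyd, mul_zpow, ← zpow_mul, ← zpow_mul, ← zpow_mul, mul_right_comm (z ^ (a * (d' : ℤ))),
          mul_inv_cancel_right₀ (zpow_ne_zero _ hw), ← zpow_add₀ hz0, show a * (d' : ℤ) + ((m + 1 : ℕ) : ℤ) * c = 1 by linarith,
          zpow_one]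
      rw [SetLike.mem_coe, hz']
      refine mul_mem (mul_mem (zpow_mem (hb (Or.inr (Or.inr rfl))) _) (zpow_mem (mul_mem (hb (Or.inr (Or.inl rfl)))
        (zpow_mem (hb (Or.inl ⟨ϖ, rfl⟩)) _)) _)) (inv_mem (zpow_mem (hb (Or.inl ⟨ϖ, rfl⟩)) _)))
    ht1 ht0 htC (by
      intro b hb
      rw [hϖ.maximalIdeal_eq, Ideal.mem_span_singleton'] at hb
      obtain ⟨b', rfl⟩ := hb
      refine ⟨t ^ m * (y ^ (-a)) * i b', mul_mem (mul_mem (pow_mem htC m) (hyz _)) (hiC b'), ?_⟩
      rw [← mul_assoc, ← mul_assoc, ← pow_succ', ht, mul_right_comm (y ^ a), ← zpow_add₀ hy0, add_neg_cancel, zpow_zero,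
        one_mul, ← map_mul, mul_comm b'])
    (by
      rintro s (rfl | rfl)
      · refine ⟨X ^ g - Polynomial.C (u : B), monic_X_pow_sub_C _ hg0, ?_, 0, C.zero_mem, ?_⟩
        · rw [Polynomial.map_sub, Polynomial.map_pow, map_X, map_C]
          exact separable_X_pow_sub_C _ hg ((residue_ne_zero_iff_isUnit _).2 u.isUnit)
        · rw [eval₂_sub, eval₂_pow, eval₂_X, eval₂_C, hy, sub_self, mul_zero]
      · exact ⟨X, monic_X, by rw [map_X]; exact separable_X, 1, C.one_mem, by rw [eval₂_X, mul_one]⟩)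
  exact ⟨hsep, ϖ, t, hϖ, hu, hvt.symm⟩

end Groth.Agent.EtRam46
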