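import Groth.Agent.EtRam46.Core
import Groth.Agent.DVR7.Basic

/-!
# Towers, finiteness, and the comparison with `EtRam.IsTamelyRamified`, `EtRam.IsUnramifiedExt`
-/

set_option linter.style.haveILetI false
set_option linter.unusedSectionVars false

namespace Groth.Agent.EtRam46

open IsLocalRing Polynomial

universe u

variable {M : Type u} [Field M] {W : ValuationSubring M}
  {A : Type u} [CommRing A] [IsDomain A] [IsDiscreteValuationRing A]
  {E : Type u} [Field E] (f : E →+* M) {gE : A →+* E}

theorem dominates_comap : EtRam.Dominates A gE (W.comap f) ↔ EtRam.Dominates A (f.comp gE) W :=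
  ⟨fun h => ⟨h.1, fun a ha => (comap_lt_one_iff f _).1 (h.2 a ha)⟩,
    fun h => ⟨h.1, fun a ha => (comap_lt_one_iff f _).2 (h.2 a ha)⟩⟩

theorem dominates_mid : EtRam.Dominates (W.comap f) (f.comp (W.comap f).subtype) W :=
  ⟨fun a => a.2, fun a ha => (comap_lt_one_iff f _).1 (((W.comap f).valuation_lt_one_iff a).1 ha)⟩

variable {f}

theorem Idx.trans [IsDiscreteValuationRing (W.comap f)] {m n : ℕ}
    (h1 : Idx (W.comap f) gE m) (h2 : Idx W (f.comp (W.comap f).subtype) n) : Idx W (f.comp gE) (n * m) := by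
  obtain ⟨ϖ, hϖ⟩ := IsDiscreteValuationRing.exists_irreducible (W.comap f)
  obtain ⟨π, t₁, hπ, ht₁, he₁⟩ := h1
  obtain ⟨ϖ', t, hϖ', ht, he⟩ := h2
  refine ⟨π, t, hπ, ht, ?_⟩
  rw [ht₁.val_eq (uni_of_irreducible hϖ'), ← map_pow, comap_eq_iff, map_pow, map_pow] at he₁
  rw [RingHom.comp_apply, he₁, pow_mul]
  exact congrArg (· ^ m) he

theorem Sep.bot (h : Sep W (f.comp gE)) : Sep (W.comap f) gE := by
  intro x hx
  obtain ⟨P, h1, h2, h3⟩ := h (f x) hx
  refine ⟨P, h1, h2, (comap_lt_one_iff f _).2 ?_⟩
  rwa [hom_eval₂]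

theorem Sep.top [IsDiscreteValuationRing (W.comap f)] (hd : EtRam.Dominates A gE (W.comap f))
    (h : Sep W (f.comp gE)) : Sep W (f.comp (W.comap f).subtype) := by
  intro x hx
  obtain ⟨P, h1, h2, h3⟩ := h x hx
  let φ : A →+* W.comap f := gE.codRestrict _ hd.1
  haveI : IsLocalHom φ := ⟨fun a ha => by
    by_contra hn
    exact (hd.2 a ((mem_maximalIdeal _).2 hn)).ne (((W.comap f).valuation_eq_one_iff _).1 ha)⟩
  refine ⟨P.map φ, h1.map φ, ?_, ?_⟩
  · rw [Polynomial.map_map, show (residue (W.comap f)).comp φ = (ResidueField.map φ).comp (residue A) from rfl,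
      ← Polynomial.map_map]
    exact h2.map
  · rw [eval₂_map]; exact h3

theorem Sep.trans [IsDiscreteValuationRing (W.comap f)] (hd : EtRam.Dominates A (f.comp gE) W)
    (h1 : Sep (W.comap f) gE) (h2 : Sep W (f.comp (W.comap f).subtype)) : Sep W (f.comp gE) := by
  have hd1 := (dominates_comap f).2 hd
  letI : Algebra A (W.comap f) := (gE.codRestrict _ hd1.1).toAlgebra
  letI : Algebra A W := ((f.comp gE).codRestrict _ hd.1).toAlgebra
  letI : Algebra (W.comap f) W := (EtRam.inclOfComap W f).toAlgebra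
  haveI : IsScalarTower A (W.comap f) W := IsScalarTower.of_algebraMap_eq fun a => rfl
  haveI : IsLocalHom (algebraMap A (W.comap f)) := ⟨fun a ha => by
    by_contra hn
    exact (hd1.2 a ((mem_maximalIdeal _).2 hn)).ne (((W.comap f).valuation_eq_one_iff _).1 ha)⟩
  haveI : IsLocalHom (algebraMap A W) := ⟨fun a ha => by
    by_contra hn
    exact (hd.2 a ((mem_maximalIdeal _).2 hn)).ne ((W.valuation_eq_one_iff _).1 ha)⟩
  haveI : IsLocalHom (algebraMap (W.comap f) W) := EtRam.isLocalHom_inclOfComap W f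
  haveI : IsScalarTower (ResidueField A) (ResidueField (W.comap f)) (ResidueField W) :=
    IsScalarTower.of_algebraMap_eq fun x => by obtain ⟨a, rfl⟩ := residue_surjective x; rfl
  haveI := (sep_iff (g := gE) fun a => rfl).1 h1
  haveI := (sep_iff (g := f.comp (W.comap f).subtype) fun a => rfl).1 h2
  exact (sep_iff (g := f.comp gE) fun a => rfl).2
    (Algebra.IsSeparable.trans (ResidueField A) (ResidueField (W.comap f)) (ResidueField W))

theorem Unram.trans [IsDiscreteValuationRing (W.comap f)] (hd : EtRam.Dominates A (f.comp gE) W)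
    (h1 : Unram (W.comap f) gE) (h2 : Unram W (f.comp (W.comap f).subtype)) : Unram W (f.comp gE) :=
  ⟨h1.1.trans hd h2.1, by simpa using h1.2.trans h2.2⟩

theorem residueNat_ne_zero (hd : EtRam.Dominates A gE (W.comap f)) {n : ℕ} :
    (n : ResidueField (W.comap f)) ≠ 0 ↔ (n : ResidueField A) ≠ 0 := by
  rw [← map_natCast (residue (W.comap f)), ← map_natCast (residue A), Ne, Ne, residue_eq_zero_iff,
    IsLocalRing.residue_eq_zero_iff, ← val_lt_one_iff hd]
  rw [map_natCast, SubringClass.coe_natCast]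

theorem Tame.trans [IsDiscreteValuationRing (W.comap f)] (hd : EtRam.Dominates A (f.comp gE) W)
    (h1 : Tame (W.comap f) gE) (h2 : Tame W (f.comp (W.comap f).subtype)) : Tame W (f.comp gE) := by
  obtain ⟨hs1, m, hm, hm0⟩ := h1
  obtain ⟨hs2, n, hn, hn0⟩ := h2
  refine ⟨hs1.trans hd hs2, n * m, hm.trans hn, ?_⟩
  rw [Nat.cast_mul]
  exact mul_ne_zero ((residueNat_ne_zero ((dominates_comap f).2 hd)).1 hn0) hm0

theorem isDVR_comap_of_dominates [IsDiscreteValuationRing W] (hd : EtRam.Dominates A (f.comp gE) W)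
    (hg : Function.Injective gE) : IsDiscreteValuationRing (W.comap f) := by
  obtain ⟨π, hπ⟩ := IsDiscreteValuationRing.exists_irreducible A
  exact isDVR_comap f (x₀ := gE π) (hd.2 π ((mem_maximalIdeal _).2 hπ.1))
    fun he => hπ.ne_zero (hg (he.trans (map_zero gE).symm))

/-- The index decomposes along a subfield. -/
theorem exists_idx_mul [IsDiscreteValuationRing W] [IsDiscreteValuationRing (W.comap f)]
    (hd : EtRam.Dominates A (f.comp gE) W) (hg : Function.Injective gE) {N : ℕ} (hN : Idx W (f.comp gE) N) :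
    ∃ m n, m ≠ 0 ∧ n ≠ 0 ∧ N = n * m ∧ Idx (W.comap f) gE m ∧ Idx W (f.comp (W.comap f).subtype) n := by
  obtain ⟨m, hm0, hm⟩ := exists_idx ((dominates_comap f).2 hd) hg
  obtain ⟨n, hn0, hn⟩ := exists_idx (dominates_mid (W := W) f) (f.injective.comp Subtype.val_injective)
  exact ⟨m, n, hm0, hn0, hN.unique hd (hm.trans hn), hm, hn⟩

theorem Tame.bot [IsDiscreteValuationRing W] (hd : EtRam.Dominates A (f.comp gE) W)
    (hg : Function.Injective gE) (h : Tame W (f.comp gE)) : Tame (W.comap f) gE := by
  haveI := isDVR_comap_of_dominates hd hg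
  obtain ⟨hs, N, hN, hN0⟩ := h
  obtain ⟨m, n, -, -, rfl, hm, -⟩ := exists_idx_mul hd hg hN
  rw [Nat.cast_mul] at hN0
  exact ⟨hs.bot, m, hm, right_ne_zero_of_mul hN0⟩

theorem Unram.bot [IsDiscreteValuationRing W] (hd : EtRam.Dominates A (f.comp gE) W)
    (hg : Function.Injective gE) (h : Unram W (f.comp gE)) : Unram (W.comap f) gE := by
  haveI := isDVR_comap_of_dominates hd hg
  obtain ⟨hs, hN⟩ := h
  obtain ⟨m, n, -, -, he, hm, -⟩ := exists_idx_mul hd hg hN
  obtain rfl : m = 1 := Nat.eq_one_of_mul_eq_one_left he.symm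
  exact ⟨hs.bot, hm⟩

theorem Unram.top_of_idx [IsDiscreteValuationRing W] [IsDiscreteValuationRing (W.comap f)]
    (hd : EtRam.Dominates A (f.comp gE) W) (hg : Function.Injective gE) {N : ℕ} (hm : Idx (W.comap f) gE N)
    (hN : Idx W (f.comp gE) N) (hs : Sep W (f.comp gE)) : Unram W (f.comp (W.comap f).subtype) := by
  obtain ⟨m, n, hm0, -, he, hm', hn⟩ := exists_idx_mul hd hg hN
  obtain rfl := hm.unique ((dominates_comap f).2 hd) hm'
  obtain rfl : n = 1 := Nat.eq_of_mul_eq_mul_right (Nat.pos_of_ne_zero hm0) (he.symm.trans (one_mul N).symm)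
  exact ⟨hs.top ((dominates_comap f).2 hd), hn⟩

/-! ### Finite extensions -/

section Finite

variable (K : Type u) [Field K] [Algebra A K] [IsFractionRing A K] [Algebra K M] [FiniteDimensional K M]

/-- Valuation subrings of a finite extension dominating a discrete valuation ring are discrete. -/
theorem isDVR_of_finite (hd : EtRam.Dominates A ((algebraMap K M).comp (algebraMap A K)) W) :
    IsDiscreteValuationRing W := by
  classical
  letI : Algebra A M := ((algebraMap K M).comp (algebraMap A K)).toAlgebra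
  haveI : IsScalarTower A K M := IsScalarTower.of_algebraMap_eq' rfl
  let b := Module.Free.chooseBasis K M
  have halg : ∀ x : M, IsAlgebraic A x := fun x =>
    (IsFractionRing.isAlgebraic_iff A K M).2 (Algebra.IsAlgebraic.isAlgebraic (R := K) x)
  choose c hc0 hc using fun i => (halg (b i)).exists_integral_multiple
  let S : Set M := Set.range fun i => c i • b i
  let A' : Subring M := (Algebra.adjoin A S).toSubring
  have hint : ∀ x ∈ Algebra.adjoin A S, IsIntegral A x := fun x hx =>
    (Algebra.adjoin_le (S := integralClosure A M) (by rintro _ ⟨i, rfl⟩; exact hc i) hx)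
  haveI : Module.Finite A (Algebra.adjoin A S) :=
    Algebra.finite_adjoin_of_finite_of_isIntegral (Set.finite_range _) (by rintro _ ⟨i, rfl⟩; exact hc i)
  haveI hNR : IsNoetherianRing (Algebra.adjoin A S) := Algebra.FiniteType.isNoetherianRing A _
  haveI : IsNoetherianRing A' := hNR
  haveI : Algebra.IsIntegral A (Algebra.adjoin A S) := Algebra.IsIntegral.of_finite A _
  have hinj : Function.Injective (algebraMap A (Algebra.adjoin A S)) := fun x y h =>
    IsFractionRing.injective A K ((algebraMap K M).injective (congrArg Subtype.val h))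
  haveI hKD : Ring.KrullDimLE 1 (Algebra.adjoin A S) := Ring.krullDimLE_one_iff_of_noZeroDivisors.2 fun P hP hPp => by
    have h1 : Ideal.comap (algebraMap A (Algebra.adjoin A S)) P ≠ ⊥ := fun h =>
      hP (Ideal.eq_bot_of_comap_eq_bot h)
    have h2 : (Ideal.comap (algebraMap A (Algebra.adjoin A S)) P).IsMaximal :=
      (hPp.comap _).isMaximal h1
    exact Ideal.isMaximal_of_isIntegral_of_isMaximal_comap P h2
  haveI : Ring.KrullDimLE 1 A' := hKD
  have hsub : Subfield.closure (A' : Set M) = ⊤ := by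
    rw [eq_top_iff]
    intro x _
    rw [← b.sum_repr x]
    refine sum_mem fun i _ => ?_
    obtain ⟨a, d, hd0, he⟩ := IsFractionRing.div_surjective (A := A) (b.repr x i)
    have hcK : algebraMap A M (c i) ≠ 0 :=
      (map_ne_zero_iff _ (show Function.Injective (algebraMap A M) from (algebraMap K M).injective.comp (IsFractionRing.injective A K))).2 (hc0 i)
    have hbi : (b i : M) = (algebraMap A M (c i))⁻¹ * (c i • b i) := by
      rw [Algebra.smul_def, inv_mul_cancel_left₀ hcK]
    have hA : ∀ a : A, algebraMap A M a ∈ Subfield.closure (A' : Set M) := fun a =>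
      Subfield.subset_closure (Subalgebra.algebraMap_mem _ a)
    rw [Algebra.smul_def, ← he, map_div₀, ← IsScalarTower.algebraMap_apply, ← IsScalarTower.algebraMap_apply, hbi]
    exact mul_mem (div_mem (hA a) (hA d)) (mul_mem (inv_mem (hA (c i)))
      (Subfield.subset_closure (Algebra.subset_adjoin ⟨i, rfl⟩)))
  haveI : IsFractionRing A' M := IsFractionRing.of_field _ _ fun z => by
    obtain ⟨p, hp, q, hq, he⟩ := Subfield.mem_closure_iff.1 (hsub ▸ Subfield.mem_top z)
    rw [Subring.closure_eq] at hp hq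
    exact ⟨⟨p, hp⟩, ⟨q, hq⟩, he.symm⟩
  have hAW : A' ≤ W.toSubring := fun x hx => by
    let iW : A →+* W := ((algebraMap K M).comp (algebraMap A K)).codRestrict W hd.1
    letI := iW.toAlgebra
    haveI : IsScalarTower A W M := IsScalarTower.of_algebraMap_eq fun a => rfl
    obtain ⟨y, hy⟩ := IsIntegrallyClosed.isIntegral_iff.1 ((hint x hx).tower_top (A := W))
    exact hy ▸ y.2
  refine KrullAki.isDiscreteValuationRing_of_le A' hAW fun h => ?_
  obtain ⟨π, hπ⟩ := IsDiscreteValuationRing.exists_irreducible A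
  have h1 := hd.2 π ((mem_maximalIdeal _).2 hπ.1)
  rw [← ValuationSubring.mem_nonunits_iff, ValuationSubring.mem_nonunits_iff_or] at h1
  rcases h1 with h1 | h1
  · exact hπ.ne_zero (IsFractionRing.injective A K ((algebraMap K M).injective
      (h1.trans ((map_zero ((algebraMap K M).comp (algebraMap A K))).symm))))
  · exact h1 (h ▸ ValuationSubring.mem_top _)

end Finite

/-! ### The definitions of the prelude -/

variable {g : A →+* M}

theorem idx_ramificationIdx [IsDiscreteValuationRing W] (hd : EtRam.Dominates A g W) (hg : Function.Injective g)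
    [IsLocalHom (g.codRestrict W hd.1)] :
    letI : Algebra A W := (g.codRestrict W hd.1).toAlgebra
    Idx W g (Ideal.ramificationIdx' (maximalIdeal A) (maximalIdeal W)) := by
  letI : Algebra A W := (g.codRestrict W hd.1).toAlgebra
  haveI : IsLocalHom (algebraMap A W) := ‹_›
  obtain ⟨π, hπ⟩ := IsDiscreteValuationRing.exists_irreducible A
  obtain ⟨ϖ, hϖ⟩ := IsDiscreteValuationRing.exists_irreducible W
  obtain ⟨u, hu, -⟩ := DVR7.exists_eq_unit_mul_pow (fun x y h => hg (congrArg Subtype.val h)) hπ hϖ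
  refine ⟨π, ϖ, hπ, uni_of_irreducible hϖ, ?_⟩
  rw [show g π = ((u : W) : M) * (ϖ : M) ^ _ from congrArg Subtype.val hu, map_mul, map_pow, W.valuation_unit, one_mul]

theorem weaklyUnramified_iff [IsDiscreteValuationRing W] (hd : EtRam.Dominates A g W) (hg : Function.Injective g)
    [IsLocalHom (g.codRestrict W hd.1)] :
    letI : Algebra A W := (g.codRestrict W hd.1).toAlgebra
    EtRam.IsWeaklyUnramified A W ↔ Idx W g 1 := by
  letI : Algebra A W := (g.codRestrict W hd.1).toAlgebra
  haveI : IsLocalHom (algebraMap A W) := ‹_›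
  obtain ⟨π, hπ⟩ := IsDiscreteValuationRing.exists_irreducible A
  have hmap : (maximalIdeal A).map (algebraMap A W) = Ideal.span {algebraMap A W π} := by
    rw [hπ.maximalIdeal_eq, Ideal.map_span, Set.image_singleton]
  constructor
  · intro h
    have h' : maximalIdeal W = Ideal.span {algebraMap A W π} := h.symm.trans hmap
    exact ⟨π, g π, hπ, uni_of_irreducible ((IsDiscreteValuationRing.irreducible_iff_uniformizer _).2 h'), (pow_one _).symm⟩
  · intro h
    obtain ⟨t, ht⟩ := exists_uni (W := W)
    have := h.spec hd hπ ht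
    rw [pow_one] at this
    show _ = _
    rw [hmap, ((ht.of_eq this).irreducible).maximalIdeal_eq]
    rfl

theorem isUnramifiedExt_iff (hg : Function.Injective g)
    (hV : ∀ V : ValuationSubring M, EtRam.Dominates A g V → IsDiscreteValuationRing V) :
    EtRam.IsUnramifiedExt A g ↔ ∀ V, EtRam.Dominates A g V → Unram V g := by
  constructor <;> intro h V hd
  · haveI := hV V hd
    letI : Algebra A V := (g.codRestrict V hd.1).toAlgebra
    haveI : IsLocalHom (algebraMap A V) := ⟨fun a ha => by
      by_contra hn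
      exact (hd.2 a ((mem_maximalIdeal _).2 hn)).ne ((V.valuation_eq_one_iff _).1 ha)⟩
    haveI : IsLocalHom (g.codRestrict V hd.1) := ‹_›
    obtain ⟨h1, h2⟩ := h V hd
    exact ⟨(sep_iff (W := V) fun a => rfl).2 h2, (weaklyUnramified_iff hd hg).1 h1⟩
  · intro hloc
    haveI := hV V hd
    haveI : IsLocalHom (g.codRestrict V hd.1) := hloc
    obtain ⟨h2, h1⟩ := h V hd
    letI : Algebra A V := (g.codRestrict V hd.1).toAlgebra
    haveI : IsLocalHom (algebraMap A V) := hloc
    exact ⟨(weaklyUnramified_iff hd hg).2 h1, (sep_iff (W := V) fun a => rfl).1 h2⟩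

theorem isTamelyRamified_iff (hg : Function.Injective g)
    (hV : ∀ V : ValuationSubring M, EtRam.Dominates A g V → IsDiscreteValuationRing V) :
    EtRam.IsTamelyRamified A g ↔ ∀ V, EtRam.Dominates A g V → Tame V g := by
  constructor <;> intro h V hd
  · haveI := hV V hd
    letI : Algebra A V := (g.codRestrict V hd.1).toAlgebra
    haveI : IsLocalHom (algebraMap A V) := ⟨fun a ha => by
      by_contra hn
      exact (hd.2 a ((mem_maximalIdeal _).2 hn)).ne ((V.valuation_eq_one_iff _).1 ha)⟩
    haveI : IsLocalHom (g.codRestrict V hd.1) := ‹_›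
    obtain ⟨h1, h2⟩ := h V hd
    refine ⟨(sep_iff (W := V) fun a => rfl).2 h1, _, idx_ramificationIdx hd hg, fun h0 => ?_⟩
    obtain ⟨e, he0, he⟩ := exists_idx hd hg
    have hee := he.unique hd (idx_ramificationIdx hd hg)
    obtain ⟨p, hp⟩ := CharP.exists (ResidueField A)
    rcases CharP.char_is_prime_or_zero (ResidueField A) p with hpp | rfl
    · exact h2 p hpp hp ((CharP.cast_eq_zero_iff _ p _).1 h0)
    · rw [CharP.cast_eq_zero_iff _ 0, zero_dvd_iff] at h0
      exact he0 (hee.trans h0)
  · intro hloc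
    haveI := hV V hd
    haveI : IsLocalHom (g.codRestrict V hd.1) := hloc
    obtain ⟨h1, n, hn, hn0⟩ := h V hd
    letI : Algebra A V := (g.codRestrict V hd.1).toAlgebra
    haveI : IsLocalHom (algebraMap A V) := hloc
    refine ⟨(sep_iff (W := V) fun a => rfl).1 h1, fun p _ hp hdvd => hn0 ?_⟩
    rw [hn.unique hd (idx_ramificationIdx hd hg), CharP.cast_eq_zero_iff _ p]
    exact hdvd

end Groth.Agent.EtRam46
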