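import Groth.Agent.EtRam46.RootAlg
import Groth.Agent.EtRam46.Tower
import Mathlib.RingTheory.Localization.Module

/-!
# Abhyankar's lemma
-/

set_option linter.style.haveILetI false
set_option linter.unusedSectionVars false

namespace Groth.Agent.EtRam46

open IsLocalRing Polynomial TensorProduct

universe u

/-- Residue fields at places of a finite extension are finite over that of the base. -/
theorem finite_residue {A : Type u} [CommRing A] [IsDomain A] [IsDiscreteValuationRing A] (K : Type u) [Field K]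
    [Algebra A K] [IsFractionRing A K] {M : Type u} [Field M] [Algebra K M] [FiniteDimensional K M]
    {V : ValuationSubring M} [Algebra A V] [IsLocalHom (algebraMap A V)]
    (hA : ∀ a, ((algebraMap A V a : V) : M) = algebraMap K M (algebraMap A K a)) :
    Module.Finite (ResidueField A) (ResidueField V) := by
  classical
  have hlift : ∀ x : K, algebraMap K M x ∈ V → ∃ a, algebraMap A K a = x := by
    intro x hx
    rcases ValuationRing.isInteger_or_isInteger A x with ⟨a, ha⟩ | ⟨a, ha⟩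
    · exact ⟨a, ha⟩
    rcases eq_or_ne x 0 with rfl | hx0
    · exact ⟨0, map_zero _⟩
    have h1 : algebraMap A V a * (⟨algebraMap K M x, hx⟩ : V) = 1 := Subtype.ext (by
      show ((algebraMap A V a : V) : M) * algebraMap K M x = 1
      rw [hA, ha, ← map_mul, inv_mul_cancel₀ hx0, map_one])
    obtain ⟨u, rfl⟩ := isUnit_of_map_unit (algebraMap A V) a (IsUnit.of_mul_eq_one _ h1)
    exact ⟨((u⁻¹ : Aˣ) : A), by rw [map_units_inv, ha, inv_inv]⟩
  have hb : Module.rank (ResidueField A) (ResidueField V) ≤ (Module.finrank K M : Cardinal) := by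
    refine rank_le fun s hs => ?_
    choose x hx using fun i : s => residue_surjective (R := V) (i : ResidueField V)
    suffices LinearIndependent K fun i : s => ((x i : V) : M) by simpa using this.fintype_card_le_finrank
    rw [Fintype.linearIndependent_iff]
    intro c hc i
    by_contra hi
    obtain ⟨j, -, hj⟩ := Finset.exists_max_image (Finset.univ : Finset s)
      (fun i => V.valuation (algebraMap K M (c i))) ⟨i, Finset.mem_univ i⟩
    have hj0 : c j ≠ 0 := fun h => by
      have := hj i (Finset.mem_univ i)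
      rw [h, map_zero, map_zero, le_zero_iff, Valuation.zero_iff, map_eq_zero] at this
      exact hi this
    have hjm : algebraMap K M (c j) ≠ 0 := (_root_.map_ne_zero _).2 hj0
    have hmem : ∀ i, algebraMap K M (c i / c j) ∈ V := fun i => by
      rw [← V.valuation_le_one_iff, map_div₀, map_div₀]
      exact (div_le_one₀ (zero_lt_iff.2 ((Valuation.ne_zero_iff _).2 hjm))).2 (hj i (Finset.mem_univ i))
    choose a ha using fun i => hlift _ (hmem i)
    have h0 : ∑ i, algebraMap A V (a i) * x i = 0 := Subtype.ext (by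
      rw [AddSubmonoidClass.coe_finsetSum, ZeroMemClass.coe_zero, ← mul_zero (algebraMap K M (c j))⁻¹, ← hc,
        Finset.mul_sum]
      refine Finset.sum_congr rfl fun i _ => ?_
      rw [MulMemClass.coe_mul, hA, ha, map_div₀, Algebra.smul_def]
      ring)
    have h2 : ∑ i, residue A (a i) • (i : ResidueField V) = 0 := by
      rw [← map_zero (residue V), ← h0, map_sum]
      refine Finset.sum_congr rfl fun i _ => ?_
      rw [map_mul, hx, Algebra.smul_def]
      rfl
    have h3 := Fintype.linearIndependent_iff.1 hs _ h2 j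
    have haj : a j = 1 := IsFractionRing.injective A K (by rw [ha, map_one, div_self hj0])
    rw [haj, map_one] at h3
    exact one_ne_zero h3
  exact Module.rank_lt_aleph0_iff.1 (lt_of_le_of_lt hb Cardinal.natCast_lt_aleph0)

variable {A B : Type u} [CommRing A] [IsDomain A] [IsDiscreteValuationRing A] [CommRing B] [IsDomain B]
  [IsDiscreteValuationRing B] [Algebra A B] [IsLocalHom (algebraMap A B)]
  {M : Type u} [Field M] {W : ValuationSubring M} {K₁ : Type u} [Field K₁] {f : K₁ →+* M}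

/-- **Abhyankar's lemma**, one place at a time. -/
theorem abhyankar [IsDiscreteValuationRing W] [IsDiscreteValuationRing (W.comap f)]
    [Algebra A (W.comap f)] [IsLocalHom (algebraMap A (W.comap f))]
    [Module.Finite (ResidueField A) (ResidueField (W.comap f))]
    (i : B →+* M) (hd : EtRam.Dominates B i W) (hi : Function.Injective i)
    (hcompat : ∀ a, i (algebraMap A B a) = f ((algebraMap A (W.comap f) a : W.comap f) : K₁))
    (hgen : Subfield.closure (Set.range i ∪ Set.range f) = ⊤)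
    {π : A} (hπ : Irreducible π) {ϖ : B} (hϖ : Irreducible ϖ) (u : Bˣ) {e : ℕ}
    (hu : algebraMap A B π = (u : B) * ϖ ^ e) (he : (e : ResidueField A) ≠ 0)
    {τ : W.comap f} (hτ : Irreducible τ) (v : (W.comap f)ˣ) {m : ℕ}
    (hv : algebraMap A (W.comap f) π = (v : W.comap f) * τ ^ (e * m)) (hm : m ≠ 0)
    [IsReduced (ResidueField (W.comap f) ⊗[ResidueField A] ResidueField B)] :
    Uni W (f τ) ∧
      (Algebra.IsGeometricallyReduced (ResidueField A) (ResidueField B) →
        @Algebra.IsGeometricallyReduced (ResidueField (W.comap f)) (ResidueField W) _ _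
          (ResidueField.map (EtRam.inclOfComap W f)).toAlgebra) := by
  classical
  set k := ResidueField A
  set E := ResidueField (W.comap f)
  set F := ResidueField B
  let j : W.comap f →+* M := f.comp (W.comap f).subtype
  have he0 : e ≠ 0 := fun h => he (by simp [h])
  set t := f τ with ht_def
  have ht1 : W.valuation t < 1 :=
    (comap_lt_one_iff f _).1 (((W.comap f).valuation_lt_one_iff τ).1 ((mem_maximalIdeal _).2 hτ.1))
  have ht0 : t ≠ 0 := (_root_.map_ne_zero f).2 (Subtype.coe_ne_coe.2 hτ.ne_zero)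
  have hiϖ0 : i ϖ ≠ 0 := (map_ne_zero_iff i hi).2 hϖ.ne_zero
  have key : i u * i ϖ ^ e = j v * t ^ (e * m) := by
    rw [← map_pow, ← map_mul, ← hu, hcompat, hv, ht_def, ← map_pow f, RingHom.comp_apply, ← map_mul f]
    rfl
  let c₀ : M := i u * j ↑v⁻¹
  let c₁ : M := i ↑u⁻¹ * j v
  let y : M := t ^ m / i ϖ
  have hvv : j ↑v⁻¹ * j v = 1 := by rw [← map_mul, v.inv_mul, map_one]
  have huu : i ↑u⁻¹ * i u = 1 := by rw [← map_mul, u.inv_mul, map_one]
  have hy : y ^ e = c₀ := by
    rw [div_pow, div_eq_iff (pow_ne_zero _ hiϖ0), ← pow_mul, mul_comm m e]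
    show _ = i u * j ↑v⁻¹ * i ϖ ^ e
    linear_combination (-(t ^ (e * m))) * hvv - (j ↑v⁻¹) * key
  have hc : c₁ * c₀ = 1 := by
    show i ↑u⁻¹ * j v * (i u * j ↑v⁻¹) = 1
    linear_combination hvv * i ↑u⁻¹ * i u + huu
  have hy0 : y ≠ 0 := div_ne_zero (pow_ne_zero _ ht0) hiϖ0
  have hjW : ∀ w, j w ∈ W := fun w => w.2
  have hyW : y ∈ W := by
    rw [← W.valuation_le_one_iff, ← pow_le_one_iff he0, ← map_pow, hy, map_mul]
    exact mul_le_one' ((W.valuation_le_one_iff _).2 (hd.1 _)) ((W.valuation_le_one_iff _).2 (hjW _))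
  let S : Set M := Set.range i ∪ Set.range j ∪ {y}
  let C := Subring.closure S
  have hiC : ∀ b, i b ∈ C := fun b => Subring.subset_closure (Or.inl (Or.inl ⟨b, rfl⟩))
  have hjC : ∀ w, j w ∈ C := fun w => Subring.subset_closure (Or.inl (Or.inr ⟨w, rfl⟩))
  have hyC : y ∈ C := Subring.subset_closure (Or.inr rfl)
  have hCW : C ≤ W.toSubring := Subring.closure_le.2 (Set.union_subset (Set.union_subset
    (by rintro _ ⟨b, rfl⟩; exact hd.1 b) (by rintro _ ⟨w, rfl⟩; exact hjW w))
    (Set.singleton_subset_iff.2 hyW))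
  have htC : t ∈ C := hjC τ
  let tC : C := ⟨t, htC⟩
  let q : C →+* C ⧸ Ideal.span {tC} := Ideal.Quotient.mk _
  have hq0 : ∀ (x : C) (r : M), r ∈ C → (x : M) = t * r → q x = 0 := fun x r hr hx =>
    Ideal.Quotient.eq_zero_iff_mem.2 (Ideal.mem_span_singleton'.2 ⟨⟨r, hr⟩, Subtype.ext (by
      show r * t = (x : M); rw [hx, mul_comm])⟩)
  let iC : B →+* C := i.codRestrict C hiC
  let jC : W.comap f →+* C := j.codRestrict C hjC
  let φE : E →+* C ⧸ Ideal.span {tC} := Ideal.Quotient.lift _ (q.comp jC) fun w hw => by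
    rw [hτ.maximalIdeal_eq, Ideal.mem_span_singleton'] at hw
    obtain ⟨r, rfl⟩ := hw
    exact hq0 _ _ (hjC r) (show j (r * τ) = t * j r by rw [map_mul, mul_comm]; rfl)
  let φF : F →+* C ⧸ Ideal.span {tC} := Ideal.Quotient.lift _ (q.comp iC) fun b hb => by
    rw [hϖ.maximalIdeal_eq, Ideal.mem_span_singleton'] at hb
    obtain ⟨r, rfl⟩ := hb
    refine hq0 _ (i r * (t ^ (m - 1) * (y ^ (e - 1) * c₁)))
      (C.mul_mem (hiC _) (C.mul_mem (C.pow_mem htC _) (C.mul_mem (C.pow_mem hyC _) (C.mul_mem (hiC _) (hjC _))))) ?_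
    show i (r * ϖ) = _
    have hty : t ^ m = y * i ϖ := (div_mul_cancel₀ _ hiϖ0).symm
    have h1 : t * t ^ (m - 1) = t ^ m := by rw [← pow_succ', Nat.sub_add_cancel (Nat.pos_of_ne_zero hm)]
    have h2 : y * y ^ (e - 1) = c₀ := by rw [← pow_succ', Nat.sub_add_cancel (Nat.pos_of_ne_zero he0), hy]
    rw [map_mul]
    linear_combination (-(i r * y ^ (e - 1) * c₁)) * h1 + (-(i r * y ^ (e - 1) * c₁)) * hty +
      (-(i r * i ϖ * c₁)) * h2 + (-(i r * i ϖ)) * hc
  letI : Algebra E (C ⧸ Ideal.span {tC}) := φE.toAlgebra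
  letI : Algebra k (C ⧸ Ideal.span {tC}) := (φE.comp (algebraMap k E)).toAlgebra
  haveI : IsScalarTower k E (C ⧸ Ideal.span {tC}) := IsScalarTower.of_algebraMap_eq fun _ => rfl
  let φFₐ : F →ₐ[k] C ⧸ Ideal.span {tC} := { φF with
    commutes' := fun a => by
      obtain ⟨a, rfl⟩ := residue_surjective a
      show q (iC (algebraMap A B a)) = q (jC (algebraMap A (W.comap f) a))
      exact congrArg q (Subtype.ext (hcompat a)) }
  let Φ : E ⊗[k] F →ₐ[E] C ⧸ Ideal.span {tC} :=
    Algebra.TensorProduct.lift (Algebra.ofId E _) φFₐ fun _ _ => mul_comm _ _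
  have hΦE : ∀ w, Φ (residue _ w ⊗ₜ 1) = q (jC w) := fun w => by
    rw [Algebra.TensorProduct.lift_tmul, map_one, mul_one]; rfl
  have hΦF : ∀ b, Φ (1 ⊗ₜ residue _ b) = q (iC b) := fun b => by
    rw [Algebra.TensorProduct.lift_tmul, map_one, one_mul]; rfl
  let cD : (E ⊗[k] F)ˣ :=
    { val := residue _ (↑v⁻¹ : W.comap f) ⊗ₜ residue _ (u : B)
      inv := residue _ (v : W.comap f) ⊗ₜ residue _ (↑u⁻¹ : B)
      val_inv := by rw [Algebra.TensorProduct.tmul_mul_tmul, ← map_mul, ← map_mul, v.inv_mul, u.mul_inv, map_one, map_one]; rfl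
      inv_val := by rw [Algebra.TensorProduct.tmul_mul_tmul, ← map_mul, ← map_mul, v.mul_inv, u.inv_mul, map_one, map_one]; rfl }
  have heD : IsUnit (e : E ⊗[k] F) := by
    rw [← map_natCast (algebraMap k (E ⊗[k] F))]
    exact (isUnit_iff_ne_zero.2 he).map _
  haveI : Algebra.Etale (E ⊗[k] F) (AdjoinRoot (X ^ e - Polynomial.C (cD : E ⊗[k] F))) := etale_root heD he0 cD
  let Q := AdjoinRoot (X ^ e - Polynomial.C (cD : E ⊗[k] F))
  haveI : IsReduced Q := Hensel.isReduced_of_etale (E ⊗[k] F) Q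
  haveI : IsArtinianRing (E ⊗[k] F) := isArtinianRing_tensor k E F
  haveI : Module.Finite (E ⊗[k] F) Q := (monic_X_pow_sub_C _ he0).finite_adjoinRoot
  haveI : IsArtinianRing Q := IsArtinianRing.of_finite (E ⊗[k] F) Q
  let Ψ : Q →+* C ⧸ Ideal.span {tC} := AdjoinRoot.lift Φ.toRingHom (q ⟨y, hyC⟩) (by
    rw [eval₂_sub, eval₂_X_pow, eval₂_C, sub_eq_zero, ← map_pow]
    show q _ = Φ (_ ⊗ₜ _)
    rw [show (residue _ (↑v⁻¹ : W.comap f) ⊗ₜ[k] residue _ (u : B)) =
      (residue _ (↑v⁻¹ : W.comap f) ⊗ₜ[k] (1 : F)) * ((1 : E) ⊗ₜ[k] residue _ (u : B)) by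
        rw [Algebra.TensorProduct.tmul_mul_tmul, mul_one, one_mul], map_mul, hΦE, hΦF, ← map_mul]
    exact congrArg q (Subtype.ext (by
      show y ^ e = j ↑v⁻¹ * i u
      rw [hy, mul_comm])))
  have hΨof : ∀ d, Ψ (AdjoinRoot.of _ d) = Φ d := fun d => AdjoinRoot.lift_of _
  have hΨs : ∀ x : C, q x ∈ Ψ.range := by
    rintro ⟨x, hx⟩
    induction hx using Subring.closure_induction with
    | mem z hz =>
      rcases hz with (⟨b, rfl⟩ | ⟨w, rfl⟩) | rfl
      · exact ⟨AdjoinRoot.of _ (1 ⊗ₜ residue _ b), (hΨof _).trans (hΦF b)⟩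
      · exact ⟨AdjoinRoot.of _ (residue _ w ⊗ₜ 1), (hΨof _).trans (hΦE w)⟩
      · exact ⟨AdjoinRoot.root _, AdjoinRoot.lift_root _⟩
    | zero => exact (show q (0 : C) = 0 from map_zero q) ▸ zero_mem _
    | one => exact (show q (1 : C) = 1 from map_one q) ▸ one_mem _
    | add a b ha hb h1 h2 =>
      show q (⟨a, ha⟩ + ⟨b, hb⟩) ∈ _
      rw [map_add]; exact add_mem h1 h2
    | neg a ha h1 =>
      show q (-⟨a, ha⟩) ∈ _
      rw [map_neg]; exact neg_mem h1
    | mul a b ha hb h1 h2 =>
      show q (⟨a, ha⟩ * ⟨b, hb⟩) ∈ _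
      rw [map_mul]; exact mul_mem h1 h2
  have hΨsurj : Function.Surjective Ψ := fun z => by
    obtain ⟨x, rfl⟩ := Ideal.Quotient.mk_surjective z
    exact hΨs x
  have hF' : Subfield.closure (C : Set M) = ⊤ := by
    rw [eq_top_iff, ← hgen, Subfield.closure_le]
    refine Set.union_subset ?_ ?_
    · rintro _ ⟨b, rfl⟩; exact Subfield.subset_closure (hiC b)
    · rintro _ ⟨x, rfl⟩
      rcases (W.comap f).mem_or_inv_mem x with hx | hx
      · exact Subfield.subset_closure (hjC ⟨x, hx⟩)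
      · rw [show f x = (f x⁻¹)⁻¹ by rw [map_inv₀, inv_inv]]
        exact inv_mem (Subfield.subset_closure (hjC ⟨x⁻¹, hx⟩))
  obtain ⟨huni, hres⟩ := core C hCW hF' htC ht1 ht0 fun x hx => by
    obtain ⟨z, hz⟩ := hΨsurj (q ⟨x, hx⟩)
    obtain ⟨d, hd'⟩ := exists_regular z
    obtain ⟨d', hd''⟩ := Ideal.Quotient.mk_surjective (Ψ d)
    have := congrArg Ψ hd'
    rw [map_mul, map_sub, map_one, map_mul, map_zero, hz, ← hd'', ← map_mul, ← map_one q, ← map_sub,
      ← map_mul, Ideal.Quotient.eq_zero_iff_mem, Ideal.mem_span_singleton'] at this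
    obtain ⟨r, hr⟩ := this
    exact ⟨d', d'.2, r, r.2, (congrArg Subtype.val hr).symm.trans (mul_comm (r : M) t)⟩
  refine ⟨huni, fun hgeo => ?_⟩
  letI : Algebra E (ResidueField W) := (ResidueField.map (EtRam.inclOfComap W f)).toAlgebra
  let cW : C →+* W := C.subtype.codRestrict W.toSubring fun x => hCW x.2
  let ρ : C ⧸ Ideal.span {tC} →+* ResidueField W := Ideal.Quotient.lift _ ((residue W).comp cW) fun x hx => by
    rw [Ideal.mem_span_singleton'] at hx
    obtain ⟨r, rfl⟩ := hx
    rw [RingHom.comp_apply, residue_eq_zero_iff]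
    show W.valuation ((r : M) * t) < 1
    rw [map_mul]
    exact lt_of_le_of_lt (mul_le_of_le_one_left' ((W.valuation_le_one_iff _).2 (hCW r.2))) ht1
  have hρs : Function.Surjective ρ := fun z => by
    obtain ⟨x, rfl⟩ := residue_surjective z
    obtain ⟨x', hx', hxx⟩ := hres x x.2
    refine ⟨q ⟨x', hx'⟩, ?_⟩
    show residue W (cW ⟨x', hx'⟩) = residue W x
    refine (sub_eq_zero.1 ?_).symm
    rw [← map_sub, residue_eq_zero_iff]
    exact hxx
  let πₐ : Q →ₐ[E] ResidueField W := { ρ.comp Ψ with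
    commutes' := fun a => by
      obtain ⟨a, rfl⟩ := residue_surjective a
      show ρ (Ψ (algebraMap E Q (residue _ a))) = _
      rw [IsScalarTower.algebraMap_apply E (E ⊗[k] F) Q, AdjoinRoot.algebraMap_eq, hΨof,
        Algebra.TensorProduct.algebraMap_apply]
      exact (congrArg ρ (hΦE a)).trans rfl }
  haveI := geomReduced_baseChange k E F
  haveI := geomReduced_etale E (E ⊗[k] F) Q
  exact geomReduced_of_surjective πₐ (hρs.comp hΨsurj)

end Groth.Agent.EtRam46
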