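import Groth.Agent.EtRam46.Root
import Mathlib.FieldTheory.IsAlgClosed.AlgebraicClosure

/-!
# Base change of tame and unramified extensions
-/

set_option linter.style.haveILetI false
set_option linter.unusedSectionVars false

namespace Groth.Agent.EtRam46

open IsLocalRing Polynomial

universe u

variable {M : Type u} [Field M] {W : ValuationSubring M}
  {A : Type u} [CommRing A] [IsDomain A] [IsDiscreteValuationRing A]
  {B : Type u} [CommRing B] [IsDomain B] [IsDiscreteValuationRing B] {i : B →+* M}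
  {E : Type u} [Field E] {f : E →+* M} {gE : A →+* E}

/-- Base change of an unramified extension. -/
theorem Unram.baseChange [IsDiscreteValuationRing W] (hd : EtRam.Dominates B i W) (hi : Function.Injective i)
    (φ : A →+* B) (hφ : ∀ a ∈ maximalIdeal A, φ a ∈ maximalIdeal B) (hcomm : f.comp gE = i.comp φ)
    (hF : Subfield.closure (Set.range i ∪ Set.range f) = ⊤) (hgE : Function.Injective gE)
    (h : Unram (W.comap f) gE) : Unram W i := by
  obtain ⟨π, hπ⟩ := IsDiscreteValuationRing.exists_irreducible A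
  obtain ⟨ϖ, hϖ⟩ := IsDiscreteValuationRing.exists_irreducible B
  have hdA : EtRam.Dominates A gE (W.comap f) := (dominates_comap f).2 (hcomm ▸
    ⟨fun a => hd.1 _, fun a ha => hd.2 _ (hφ a ha)⟩)
  have hπ0 : gE π ≠ 0 := fun he => hπ.ne_zero (hgE (he.trans (map_zero gE).symm))
  obtain ⟨hsep, π', t', hπ', ht', he⟩ := h
  rw [pow_one] at he
  have hu : Uni (W.comap f) (gE π) := ht'.of_eq ((val_irreducible_eq hdA hπ hπ').trans he)
  let S : Set M := f '' (W.comap f : Set E)
  set C := Subring.closure (Set.range i ∪ S)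
  have hiC : ∀ b, i b ∈ C := fun b => Subring.subset_closure (Or.inl ⟨b, rfl⟩)
  have hmi : ∀ b ∈ maximalIdeal B, ∃ b', i b = i ϖ * i b' := fun b hb => by
    rw [hϖ.maximalIdeal_eq, Ideal.mem_span_singleton'] at hb
    obtain ⟨b', rfl⟩ := hb
    exact ⟨b', by rw [← map_mul, mul_comm]⟩
  obtain ⟨hU, hS⟩ := core_gen hd S (by rintro _ ⟨x, hx, rfl⟩; exact hx) (by
      rw [eq_top_iff, ← hF, Subfield.closure_le]
      rintro x (hx | ⟨e, rfl⟩)
      · exact Subfield.subset_closure (Or.inl hx)
      rcases (W.comap f).mem_or_inv_mem e with he | he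
      · exact Subfield.subset_closure (Or.inr ⟨e, he, rfl⟩)
      · rw [← inv_inv e, map_inv₀]
        exact inv_mem (Subfield.subset_closure (Or.inr ⟨e⁻¹, he, rfl⟩)))
    (hd.2 ϖ ((mem_maximalIdeal _).2 hϖ.1)) (fun he => hϖ.ne_zero (hi (he.trans (map_zero i).symm))) (hiC ϖ)
    (fun b hb => let ⟨b', hb'⟩ := hmi b hb; ⟨i b', hiC b', hb'⟩)
    (by
      rintro _ ⟨x, hx, rfl⟩
      obtain ⟨P, h1, h2, h3⟩ := hsep x hx
      haveI : IsLocalHom φ := ⟨fun a ha => by
        by_contra hn
        exact (mem_maximalIdeal _).1 (hφ a ((mem_maximalIdeal _).2 hn)) ha⟩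
      refine ⟨P.map φ, h1.map φ, ?_, ?_⟩
      · rw [Polynomial.map_map, show (residue B).comp φ = (ResidueField.map φ).comp (residue A) from rfl,
          ← Polynomial.map_map]
        exact h2.map
      obtain ⟨b', hb'⟩ := hmi (φ π) (hφ π ((mem_maximalIdeal _).2 hπ.1))
      set v := P.eval₂ gE x / gE π with hv
      have hvW : v ∈ W.comap f := by
        rw [← ValuationSubring.valuation_le_one_iff, hv, map_div₀,
          div_le_one₀ (zero_lt_iff.2 ((Valuation.ne_zero_iff _).2 hπ0))]
        exact hu.2.2 _ h3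
      refine ⟨i b' * f v, C.mul_mem (hiC b') (Subring.subset_closure (Or.inr ⟨v, hvW, rfl⟩)), ?_⟩
      rw [← mul_assoc, ← hb', ← RingHom.comp_apply i φ, ← hcomm, RingHom.comp_apply, ← map_mul, hv,
        mul_div_cancel₀ _ hπ0, eval₂_map, ← hcomm, ← hom_eval₂])
  exact ⟨hS, ϖ, i ϖ, hϖ, hU, (pow_one _).symm⟩

/-- A subfield is generated by its generators. -/
theorem closure_preimage_eq_top (S : Set M) :
    Subfield.closure ((Subtype.val : Subfield.closure S → M) ⁻¹' S) = ⊤ := by
  set T : Set (Subfield.closure S) := Subtype.val ⁻¹' S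
  rw [eq_top_iff]
  rintro ⟨x, hx⟩ -
  have h : (Subfield.closure T).map (Subfield.closure S).subtype = Subfield.closure S := by
    refine le_antisymm ?_ (Subfield.closure_le.2 fun y hy =>
      ⟨⟨y, Subfield.subset_closure hy⟩, Subfield.subset_closure hy, rfl⟩)
    rintro _ ⟨y, -, rfl⟩
    exact y.2
  obtain ⟨y, hy, he⟩ := h.ge hx
  exact (Subtype.ext he : y = ⟨x, hx⟩) ▸ hy

theorem closure_generators {S : Set M} {T : Set (Subfield.closure S)}
    (h : ∀ x : Subfield.closure S, (x : M) ∈ S → x ∈ Subfield.closure T) : Subfield.closure T = ⊤ :=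
  eq_top_iff.2 (closure_preimage_eq_top S ▸ Subfield.closure_le.2 fun x hx => h x hx)

theorem mem_closure_valuationSubring (V : ValuationSubring E) (f : E →+* M) {S : Set M}
    (h : ∀ x ∈ V, f x ∈ Subfield.closure S) (x : E) : f x ∈ Subfield.closure S := by
  rcases V.mem_or_inv_mem x with hx | hx
  · exact h x hx
  · rw [← inv_inv x, map_inv₀]
    exact inv_mem (h _ hx)

theorem mem_closure_fraction {C : Type u} [CommRing C] {Q : Type u} [Field Q] [Algebra C Q] [IsFractionRing C Q]
    (f : Q →+* M) {S : Set M} (h : ∀ c, f (algebraMap C Q c) ∈ Subfield.closure S) (x : Q) :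
    f x ∈ Subfield.closure S := by
  obtain ⟨a, b, -, rfl⟩ := IsFractionRing.div_surjective (A := C) x
  rw [map_div₀]
  exact div_mem (h a) (h b)

theorem closure_top_adjoin {Ω : Type u} [Field Ω] [Algebra M Ω] (z : Ω) :
    Subfield.closure (Set.range (algebraMap M (IntermediateField.adjoin M ({z} : Set Ω))) ∪
      {⟨z, IntermediateField.subset_adjoin M _ rfl⟩}) = ⊤ := by
  rw [eq_top_iff]
  rintro ⟨x, hx⟩ -
  have hle : Subfield.closure (Set.range (algebraMap M Ω) ∪ {z}) ≤
      (Subfield.closure (Set.range (algebraMap M (IntermediateField.adjoin M ({z} : Set Ω))) ∪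
        {⟨z, IntermediateField.subset_adjoin M _ rfl⟩})).map (IntermediateField.adjoin M ({z} : Set Ω)).val.toRingHom := by
    refine Subfield.closure_le.2 ?_
    rintro y (⟨m, rfl⟩ | hy)
    · exact ⟨_, Subfield.subset_closure (Or.inl ⟨m, rfl⟩), rfl⟩
    · exact ⟨_, Subfield.subset_closure (Or.inr rfl), (show y = z from hy).symm⟩
  obtain ⟨w, hw, hwx⟩ := hle hx
  exact (Subtype.ext hwx : w = ⟨x, hx⟩) ▸ hw

/-- The subfield generated by a root. -/
theorem root_sub {M' : Type u} [Field M'] {W' : ValuationSubring M'} [IsDiscreteValuationRing W']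
    {j : B →+* M'} (hd : EtRam.Dominates B j W') (hj : Function.Injective j) {z : M'} (F : Subfield M')
    (hF : F = Subfield.closure (Set.range j ∪ {z})) {g : B →+* F} (hg : ∀ b, (g b : M') = j b)
    {e : ℕ} (he : (e : ResidueField B) ≠ 0) {ϖ : B} (hϖ : Irreducible ϖ) (u : Bˣ) (d : ℕ)
    (hz : z ^ e = j ((u : B) * ϖ ^ d)) :
    IsDiscreteValuationRing (W'.comap F.subtype) ∧ EtRam.Dominates B g (W'.comap F.subtype) ∧
      Function.Injective g ∧ Sep (W'.comap F.subtype) g ∧ Idx (W'.comap F.subtype) g (e / e.gcd d) := by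
  have hcomp : F.subtype.comp g = j := RingHom.ext hg
  have hd' : EtRam.Dominates B (F.subtype.comp g) W' := by rwa [hcomp]
  have hg' : Function.Injective g := fun a b hab => hj (by rw [← hg, ← hg, hab])
  haveI := isDVR_comap_of_dominates hd' hg'
  subst hF
  let z1 : Subfield.closure (Set.range j ∪ {z}) := ⟨z, Subfield.subset_closure (Or.inr rfl)⟩
  exact ⟨inferInstance, (dominates_comap _).2 hd', hg', root ((dominates_comap _).2 hd') hg' (z := z1)
    (closure_generators (T := _) (fun x hx => Subfield.subset_closure (by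
      rcases hx with ⟨a, ha⟩ | hx
      · exact Or.inl ⟨a, Subtype.ext ((hg a).trans ha)⟩
      · exact Or.inr (Subtype.ext hx)))) he hϖ u d (Subtype.ext (hz.trans (hg _).symm))⟩

/-- Unramified base change inside a square of subfields. -/
theorem Tame.square {M' : Type u} [Field M'] {W' : ValuationSubring M'} [IsDiscreteValuationRing W']
    {j : B →+* M'} (hd : EtRam.Dominates B j W') {E1 E2 E3 : Subfield M'} (h12 : E1 ≤ E2) (h13 : E1 ≤ E3)
    [IsDiscreteValuationRing (W'.comap E1.subtype)]
    [IsDiscreteValuationRing (W'.comap E3.subtype)] {g3 : B →+* E3} (hg3 : E3.subtype.comp g3 = j)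
    (ht3 : Tame (W'.comap E3.subtype) g3)
    (hur : Unram (W'.comap E2.subtype) ((Subfield.inclusion h12).comp (W'.comap E1.subtype).subtype))
    (hF : Subfield.closure ((E3 : Set M') ∪ (E2 : Set M')) = ⊤) : Tame W' j := by
  let φ1 : W'.comap E1.subtype →+* W'.comap E3.subtype :=
    ((Subfield.inclusion h13).comp (W'.comap E1.subtype).subtype).codRestrict _ fun x => x.2
  have hφ1 : ∀ a ∈ maximalIdeal (W'.comap E1.subtype), φ1 a ∈ maximalIdeal (W'.comap E3.subtype) := fun a ha => by
    rw [ValuationSubring.valuation_lt_one_iff, comap_lt_one_iff] at ha ⊢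
    exact ha
  have hfinal : Unram W' (E3.subtype.comp (W'.comap E3.subtype).subtype) := by
    refine Unram.baseChange (f := E2.subtype) (gE := (Subfield.inclusion h12).comp (W'.comap E1.subtype).subtype)
      (dominates_mid E3.subtype) (E3.subtype.injective.comp Subtype.val_injective) φ1 hφ1 (RingHom.ext fun x => rfl) ?_
      ((Subfield.inclusion h12).injective.comp Subtype.val_injective) hur
    rw [eq_top_iff, ← hF, Subfield.closure_le]
    rintro x (hx | hx)
    · exact mem_closure_valuationSubring (W'.comap E3.subtype) E3.subtype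
        (fun y hy => Subfield.subset_closure (Or.inl ⟨⟨y, hy⟩, rfl⟩)) ⟨x, hx⟩
    · exact Subfield.subset_closure (Or.inr ⟨⟨x, hx⟩, rfl⟩)
  subst hg3
  exact Tame.trans (f := E3.subtype) (gE := g3) hd ht3 hfinal.tame

/-- The index over the first subfield. -/
theorem unram_inclusion {M' : Type u} [Field M'] {W' : ValuationSubring M'}
    {E1 E2 : Subfield M'} (h12 : E1 ≤ E2) [IsDiscreteValuationRing (W'.comap E1.subtype)]
    [IsDiscreteValuationRing (W'.comap E2.subtype)] {g1 : A →+* E1}
    (hd : EtRam.Dominates A ((Subfield.inclusion h12).comp g1) (W'.comap E2.subtype)) (hg1 : Function.Injective g1)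
    {e : ℕ} (h1 : Idx (W'.comap E1.subtype) g1 e)
    (h2 : Idx (W'.comap E2.subtype) ((Subfield.inclusion h12).comp g1) e)
    (hs : Sep (W'.comap E2.subtype) ((Subfield.inclusion h12).comp g1)) :
    Unram (W'.comap E2.subtype) ((Subfield.inclusion h12).comp (W'.comap E1.subtype).subtype) := by
  have heq : (W'.comap E2.subtype).comap (Subfield.inclusion h12) = W'.comap E1.subtype :=
    SetLike.ext fun x => Iff.rfl
  haveI : IsDiscreteValuationRing ((W'.comap E2.subtype).comap (Subfield.inclusion h12)) := heq.symm ▸ ‹_›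
  exact Unram.top_of_idx (f := Subfield.inclusion h12) (gE := g1) hd hg1 (heq.symm ▸ h1) h2 hs

theorem Tame.baseChange_aux {M' : Type u} [Field M'] (ι : M →+* M') (W' : ValuationSubring M')
    [IsDiscreteValuationRing W'] (hd : EtRam.Dominates B i (W'.comap ι)) (hi : Function.Injective i)
    (φ : A →+* B) (hφ : ∀ a ∈ maximalIdeal A, φ a ∈ maximalIdeal B) (hcomm : f.comp gE = i.comp φ)
    (hF : Subfield.closure (Set.range i ∪ Set.range f) = ⊤) (hgE : Function.Injective gE)
    (E1 E2 E3 : Subfield M') (z' : M')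
    (hE1 : E1 = Subfield.closure (Set.range ((ι.comp f).comp gE) ∪ {z'}))
    (hE2 : E2 = Subfield.closure (Set.range (ι.comp f) ∪ {z'}))
    (hE3 : E3 = Subfield.closure (Set.range (ι.comp i) ∪ {z'}))
    {π : A} (hπ : Irreducible π) (hdA : EtRam.Dominates A gE ((W'.comap ι).comap f))
    {V : ValuationSubring E} (hV : (W'.comap ι).comap f = V) [IsDiscreteValuationRing V]
    (hπV : gE π ∈ V) {ϖ : V} (hϖ : Irreducible ϖ) {e : ℕ} (u : Vˣ)
    (hu : (⟨gE π, hπV⟩ : V) = (u : V) * ϖ ^ e)
    (hie : Idx V gE e) (hsep : Sep V gE) (he' : (e : ResidueField A) ≠ 0) (he0 : e ≠ 0)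
    (hz' : z' ^ e = ι (f (gE π))) (hgen : Subfield.closure (Set.range ι ∪ {z'}) = ⊤) :
    Tame (W'.comap ι) i := by
  haveI hloc : IsLocalHom φ := ⟨fun a ha => by
    by_contra hn
    exact (mem_maximalIdeal _).1 (hφ a ((mem_maximalIdeal _).2 hn)) ha⟩
  let i' : B →+* M' := ι.comp i
  have hd' : EtRam.Dominates B i' W' := (dominates_comap ι).1 hd
  have hi'inj : Function.Injective i' := ι.injective.comp hi
  let j : A →+* M' := (ι.comp f).comp gE
  have hj : EtRam.Dominates A j W' := (dominates_comap (ι.comp f)).1 hdA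
  have hjinj : Function.Injective j := (ι.comp f).injective.comp hgE
  have hcomm' : ∀ a, j a = i' (φ a) := fun a => congrArg ι (RingHom.congr_fun hcomm a)
  -- first field
  have hj1 : ∀ a, j a ∈ E1 := fun a => hE1 ▸ Subfield.subset_closure (Or.inl ⟨a, rfl⟩)
  let g1 : A →+* E1 := j.codRestrict E1 hj1
  obtain ⟨_, hd1, hg1, hs1, hi1⟩ := root_sub hj hjinj E1 hE1 (g := g1) (fun a => rfl) he' hπ 1 1
    (by rw [Units.val_one, pow_one, one_mul]; exact hz')
  rw [Nat.gcd_one_right, Nat.div_one] at hi1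
  -- second field
  have hf2 : ∀ a, ι (f a) ∈ E2 := fun a => hE2 ▸ Subfield.subset_closure (Or.inl ⟨a, rfl⟩)
  let f2 : E →+* E2 := (ι.comp f).codRestrict E2 hf2
  have hdV : EtRam.Dominates V ((ι.comp f).comp V.subtype) W' := by
    subst hV; exact dominates_mid (ι.comp f)
  have heV : (e : ResidueField V) ≠ 0 := by
    subst hV; exact (residueNat_ne_zero hdA).2 he'
  obtain ⟨_, -, -, hs2, hi2⟩ := root_sub hdV ((ι.comp f).injective.comp Subtype.val_injective) E2 (z := z')
    (by
      rw [hE2]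
      refine le_antisymm ?_ (Subfield.closure_mono (Set.union_subset_union_left _ (by rintro _ ⟨x, rfl⟩; exact ⟨x, rfl⟩)))
      rw [Subfield.closure_le]
      rintro x (⟨a, rfl⟩ | hx)
      · exact mem_closure_valuationSubring V (ι.comp f) (fun y hy => Subfield.subset_closure (Or.inl ⟨⟨y, hy⟩, rfl⟩)) a
      · exact Subfield.subset_closure (Or.inr hx))
    (g := f2.comp V.subtype) (fun b => rfl) heV hϖ u e
    (by rw [← hu, hz']; rfl)
  rw [Nat.gcd_self, Nat.div_self (Nat.pos_of_ne_zero he0)] at hi2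
  have hV2 : (W'.comap E2.subtype).comap f2 = V := hV ▸ rfl
  have hd2 : EtRam.Dominates A (f2.comp gE) (W'.comap E2.subtype) := (dominates_comap E2.subtype).2 hj
  subst hV2
  have hi2' : Idx (W'.comap E2.subtype) (f2.comp gE) e := one_mul e ▸ Idx.trans hie hi2
  have hs2' : Sep (W'.comap E2.subtype) (f2.comp gE) := Sep.trans hd2 hsep hs2
  have h12 : E1 ≤ E2 := by
    rw [hE1, Subfield.closure_le]
    rintro x (⟨a, rfl⟩ | hx)
    · exact hf2 (gE a)
    · exact hE2 ▸ Subfield.subset_closure (Or.inr hx)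
  have hk : (Subfield.inclusion h12).comp g1 = f2.comp gE := RingHom.ext fun a => Subtype.ext rfl
  have hur := unram_inclusion (A := A) h12 (g1 := g1) (hk ▸ hd2) hg1 hi1 (hk ▸ hi2') (hk ▸ hs2')
  -- third field
  obtain ⟨ϖB, hϖB⟩ := IsDiscreteValuationRing.exists_irreducible B
  have hb0 : φ π ≠ 0 := fun h0 => hπ.ne_zero (hjinj (by rw [hcomm', h0, map_zero, map_zero]))
  obtain ⟨d, uB, huB⟩ := IsDiscreteValuationRing.eq_unit_mul_pow_irreducible hb0 hϖB
  let g3 : B →+* E3 := i'.codRestrict E3 fun b => hE3 ▸ Subfield.subset_closure (Or.inl ⟨b, rfl⟩)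
  obtain ⟨_, -, -, hs3, hi3⟩ := root_sub hd' hi'inj E3 hE3 (g := g3) (fun a => rfl) (e := e)
    (fun h0 => he' ((map_eq_zero (ResidueField.map φ)).1 (by rwa [map_natCast]))) hϖB uB d
    (by rw [← huB, hz', ← hcomm']; rfl)
  have ht3 : Tame (W'.comap E3.subtype) g3 := by
    refine ⟨hs3, _, hi3, fun h0 => he' ?_⟩
    refine (map_eq_zero (ResidueField.map φ)).1 ?_
    rw [map_natCast, ← Nat.div_mul_cancel (Nat.gcd_dvd_left e d), Nat.cast_mul, h0, zero_mul]
  have h13 : E1 ≤ E3 := by
    rw [hE1, Subfield.closure_le]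
    rintro x (⟨a, rfl⟩ | hx)
    · exact hE3 ▸ Subfield.subset_closure (Or.inl ⟨φ a, (hcomm' a).symm⟩)
    · exact hE3 ▸ Subfield.subset_closure (Or.inr hx)
  have hz2 : z' ∈ E2 := hE2 ▸ Subfield.subset_closure (Or.inr rfl)
  have hgen' : Subfield.closure ((E3 : Set M') ∪ (E2 : Set M')) = ⊤ := by
    set T := Subfield.closure ((E3 : Set M') ∪ (E2 : Set M'))
    have hMT : ∀ m : M, ι m ∈ T := fun m => by
      have hm : m ∈ Subfield.closure (Set.range i ∪ Set.range f) := hF ▸ Subfield.mem_top m
      have hle : Subfield.closure (Set.range i ∪ Set.range f) ≤ T.comap ι := Subfield.closure_le.2 (by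
        rintro y (⟨b, rfl⟩ | ⟨a, rfl⟩)
        · exact Subfield.subset_closure (Or.inl (hE3 ▸ Subfield.subset_closure (Or.inl ⟨b, rfl⟩)))
        · exact Subfield.subset_closure (Or.inr (hf2 a)))
      exact hle hm
    rw [eq_top_iff, ← hgen, Subfield.closure_le]
    rintro y (⟨m, rfl⟩ | rfl)
    · exact hMT m
    · exact Subfield.subset_closure (Or.inr hz2)
  have htame : Tame W' i' := Tame.square hd' h12 h13 (g3 := g3) (RingHom.ext fun b => rfl) ht3 hur hgen'
  exact Tame.bot (f := ι) (gE := i) hd' hi htame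

/-- Base change of a tamely ramified extension. -/
theorem Tame.baseChange (L : Type u) [Field L] [Algebra B L] [IsFractionRing B L] [Algebra L M] [FiniteDimensional L M]
    (hd : EtRam.Dominates B ((algebraMap L M).comp (algebraMap B L)) W)
    (φ : A →+* B) (hφ : ∀ a ∈ maximalIdeal A, φ a ∈ maximalIdeal B)
    (hcomm : f.comp gE = ((algebraMap L M).comp (algebraMap B L)).comp φ)
    (hF : Subfield.closure (Set.range ((algebraMap L M).comp (algebraMap B L)) ∪ Set.range f) = ⊤)
    (hgE : Function.Injective gE)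
    (h : Tame (W.comap f) gE) : Tame W ((algebraMap L M).comp (algebraMap B L)) := by
  set i := (algebraMap L M).comp (algebraMap B L) with hidef
  have hi : Function.Injective i := (algebraMap L M).injective.comp (IsFractionRing.injective B L)
  haveI : IsDiscreteValuationRing W := isDVR_of_finite L hd
  obtain ⟨π, hπ⟩ := IsDiscreteValuationRing.exists_irreducible A
  have hdA : EtRam.Dominates A gE (W.comap f) := (dominates_comap f).2 (hcomm ▸
    ⟨fun a => hd.1 _, fun a ha => hd.2 _ (hφ a ha)⟩)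
  haveI : IsDiscreteValuationRing (W.comap f) := isDVR_comap_of_dominates ((dominates_comap f).1 hdA) hgE
  have hπV : gE π ∈ W.comap f := hdA.1 π
  obtain ⟨ϖ, hϖ⟩ := IsDiscreteValuationRing.exists_irreducible (W.comap f)
  have hπne : (⟨gE π, hπV⟩ : W.comap f) ≠ 0 := fun he =>
    hπ.ne_zero (hgE ((congrArg Subtype.val he).trans (map_zero gE).symm))
  obtain ⟨e, u, hu⟩ := IsDiscreteValuationRing.eq_unit_mul_pow_irreducible hπne hϖ
  obtain ⟨hsep, e', hie', he'⟩ := h
  have hie : Idx (W.comap f) gE e := ⟨π, ϖ, hπ, uni_of_irreducible hϖ, by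
    rw [show gE π = ((u : W.comap f) : E) * (ϖ : E) ^ e from congrArg Subtype.val hu, map_mul, map_pow,
      ValuationSubring.valuation_unit, one_mul]⟩
  obtain rfl := hie.unique hdA hie'
  have he0 : e ≠ 0 := fun h0 => he' (by simp [h0])
  let Ω := AlgebraicClosure M
  obtain ⟨z, hz⟩ := IsAlgClosed.exists_pow_nat_eq (algebraMap M Ω (f (gE π))) (Nat.pos_of_ne_zero he0)
  let M' := IntermediateField.adjoin M ({z} : Set Ω)
  haveI : FiniteDimensional M M' := IntermediateField.adjoin.finiteDimensional (Algebra.IsIntegral.isIntegral z)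
  haveI : FiniteDimensional L M' := FiniteDimensional.trans L M M'
  obtain ⟨W', hW'⟩ := exists_comap_eq (algebraMap M M') W
  subst hW'
  have hd' := (dominates_comap (algebraMap M M')).1 hd
  rw [hidef, ← RingHom.comp_assoc, ← IsScalarTower.algebraMap_eq] at hd'
  haveI : IsDiscreteValuationRing W' := isDVR_of_finite L hd'
  refine Tame.baseChange_aux (algebraMap M M') W' hd hi φ hφ hcomm hF hgE _ _ _
    ⟨z, IntermediateField.subset_adjoin M _ rfl⟩ rfl rfl rfl hπ hdA rfl hπV hϖ u hu hie hsep he' he0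
    (Subtype.ext hz) ?_
  exact closure_top_adjoin z

end Groth.Agent.EtRam46
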