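import Groth.Agent.EtRam46.BaseChange
import Mathlib.FieldTheory.Normal.Closure
import Mathlib.FieldTheory.Galois.Basic

/-!
# Composita and Galois closures of tame and unramified extensions
-/

set_option linter.style.haveILetI false
set_option linter.unusedSectionVars false

namespace Groth.Agent.EtRam46

open IsLocalRing Polynomial

universe u

variable (A K : Type u) [CommRing A] [IsDomain A] [IsDiscreteValuationRing A] [Field K] [Algebra A K] [IsFractionRing A K]

/-- Every valuation subring over `A` satisfies `Tame`. -/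
def TameExt (L : Type u) [Field L] [Algebra K L] : Prop :=
  ∀ V : ValuationSubring L, EtRam.Dominates A ((algebraMap K L).comp (algebraMap A K)) V →
    Tame V ((algebraMap K L).comp (algebraMap A K))

/-- Every valuation subring over `A` satisfies `Unram`. -/
def UnramExt (L : Type u) [Field L] [Algebra K L] : Prop :=
  ∀ V : ValuationSubring L, EtRam.Dominates A ((algebraMap K L).comp (algebraMap A K)) V →
    Unram V ((algebraMap K L).comp (algebraMap A K))

variable (L : Type u) [Field L] [Algebra K L] [FiniteDimensional K L]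

theorem isTamelyRamified_iff_tameExt :
    EtRam.IsTamelyRamified A ((algebraMap K L).comp (algebraMap A K)) ↔ TameExt A K L :=
  isTamelyRamified_iff ((algebraMap K L).injective.comp (IsFractionRing.injective A K))
    fun _ hV => isDVR_of_finite K hV

theorem isUnramifiedExt_iff_unramExt :
    EtRam.IsUnramifiedExt A ((algebraMap K L).comp (algebraMap A K)) ↔ UnramExt A K L :=
  isUnramifiedExt_iff ((algebraMap K L).injective.comp (IsFractionRing.injective A K))
    fun _ hV => isDVR_of_finite K hV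

variable {A K} in
/-- The base itself is unramified. -/
theorem unram_base {M : Type u} [Field M] [Algebra K M] [FiniteDimensional K M]
    (hM : Subfield.closure (Set.range ((algebraMap K M).comp (algebraMap A K))) = ⊤) {W : ValuationSubring M}
    (hd : EtRam.Dominates A ((algebraMap K M).comp (algebraMap A K)) W) :
    Unram W ((algebraMap K M).comp (algebraMap A K)) := by
  set g := (algebraMap K M).comp (algebraMap A K)
  haveI := isDVR_of_finite K hd
  obtain ⟨π, hπ⟩ := IsDiscreteValuationRing.exists_irreducible A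
  have hg0 : g π ≠ 0 := fun he => hπ.ne_zero (IsFractionRing.injective A K
    ((algebraMap K M).injective (he.trans ((map_zero g).symm))))
  obtain ⟨hu, hs⟩ := core_gen hd ∅ (fun s hs => hs.elim) (by rwa [Set.union_empty])
    (hd.2 π ((mem_maximalIdeal _).2 hπ.1)) hg0 (Subring.subset_closure (Or.inl (Set.mem_range_self (f := g) π)))
    (fun b hb => by
      rw [hπ.maximalIdeal_eq, Ideal.mem_span_singleton'] at hb
      obtain ⟨b', rfl⟩ := hb
      exact ⟨g b', Subring.subset_closure (Or.inl ⟨b', rfl⟩), by rw [← map_mul, mul_comm]⟩)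
    (fun s hs => hs.elim)
  exact ⟨hs, π, g π, hπ, hu, (pow_one _).symm⟩

theorem unramExt_self : UnramExt A K K := fun V hV => by
  refine unram_base ?_ hV
  rw [eq_top_iff]
  rintro x -
  exact mem_closure_fraction (C := A) (S := Set.range ((algebraMap K K).comp (algebraMap A K))) (RingHom.id K) (fun c => Subfield.subset_closure (Set.mem_range_self c)) x

variable {A K L}

theorem UnramExt.of_algHom {L' : Type u} [Field L'] [Algebra K L'] [FiniteDimensional K L'] (σ : L →ₐ[K] L')
    (h : UnramExt A K L') : UnramExt A K L := fun V hV => by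
  obtain ⟨W, rfl⟩ := exists_comap_eq (σ : L →+* L') V
  have hg : (σ : L →+* L').comp ((algebraMap K L).comp (algebraMap A K)) = (algebraMap K L').comp (algebraMap A K) :=
    RingHom.ext fun a => σ.commutes _
  have hd := (dominates_comap (σ : L →+* L')).1 hV
  haveI := isDVR_of_finite K (hg ▸ hd)
  exact Unram.bot hd ((algebraMap K L).injective.comp (IsFractionRing.injective A K)) (hg.symm ▸ h W (hg ▸ hd))

theorem TameExt.of_algHom {L' : Type u} [Field L'] [Algebra K L'] [FiniteDimensional K L'] (σ : L →ₐ[K] L')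
    (h : TameExt A K L') : TameExt A K L := fun V hV => by
  obtain ⟨W, rfl⟩ := exists_comap_eq (σ : L →+* L') V
  have hg : (σ : L →+* L').comp ((algebraMap K L).comp (algebraMap A K)) = (algebraMap K L').comp (algebraMap A K) :=
    RingHom.ext fun a => σ.commutes _
  have hd := (dominates_comap (σ : L →+* L')).1 hV
  haveI := isDVR_of_finite K (hg ▸ hd)
  exact Tame.bot hd ((algebraMap K L).injective.comp (IsFractionRing.injective A K)) (hg.symm ▸ h W (hg ▸ hd))

section Compositum

variable {L₁ L₂ M : Type u} [Field L₁] [Field L₂] [Field M] [Algebra K L₁] [Algebra K L₂] [Algebra K M]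
  [FiniteDimensional K M] (σ₁ : L₁ →ₐ[K] M) (σ₂ : L₂ →ₐ[K] M)

theorem compositum_setup (hgen : Subfield.closure (Set.range σ₁ ∪ Set.range σ₂) = ⊤) {W : ValuationSubring M}
    (hW : EtRam.Dominates A ((algebraMap K M).comp (algebraMap A K)) W) :
    IsDiscreteValuationRing (W.comap (σ₂ : L₂ →+* M)) ∧
      Subfield.closure (Set.range ((σ₂ : L₂ →+* M).comp (W.comap (σ₂ : L₂ →+* M)).subtype) ∪ Set.range σ₁) = ⊤ := by
  have hg : (σ₂ : L₂ →+* M).comp ((algebraMap K L₂).comp (algebraMap A K)) = (algebraMap K M).comp (algebraMap A K) :=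
    RingHom.ext fun a => σ₂.commutes _
  haveI := isDVR_of_finite K hW
  refine ⟨isDVR_comap_of_dominates (gE := (algebraMap K L₂).comp (algebraMap A K)) (hg.symm ▸ hW)
    ((algebraMap K L₂).injective.comp (IsFractionRing.injective A K)), ?_⟩
  rw [eq_top_iff, ← hgen, Subfield.closure_le]
  rintro x (hx | ⟨y, rfl⟩)
  · exact Subfield.subset_closure (Or.inr hx)
  · exact mem_closure_valuationSubring (W.comap (σ₂ : L₂ →+* M)) (σ₂ : L₂ →+* M)
      (fun y hy => Subfield.subset_closure (Or.inl ⟨⟨y, hy⟩, rfl⟩)) y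

theorem UnramExt.compositum (hgen : Subfield.closure (Set.range σ₁ ∪ Set.range σ₂) = ⊤)
    (h₁ : UnramExt A K L₁) (h₂ : UnramExt A K L₂) : UnramExt A K M := fun W hW => by
  obtain ⟨_, hF⟩ := compositum_setup σ₁ σ₂ hgen hW
  haveI := isDVR_of_finite K hW
  set g₂ := (algebraMap K L₂).comp (algebraMap A K)
  have hg : (σ₂ : L₂ →+* M).comp g₂ = (algebraMap K M).comp (algebraMap A K) :=
    RingHom.ext fun a => σ₂.commutes _
  have hg1 : (σ₁ : L₁ →+* M).comp ((algebraMap K L₁).comp (algebraMap A K)) = (algebraMap K M).comp (algebraMap A K) :=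
    RingHom.ext fun a => σ₁.commutes _
  have hd2 := (dominates_comap (σ₂ : L₂ →+* M)).2 (hg.symm ▸ hW)
  have hd1 := (dominates_comap (σ₁ : L₁ →+* M)).2 (hg1.symm ▸ hW)
  let φ : A →+* W.comap (σ₂ : L₂ →+* M) := g₂.codRestrict _ hd2.1
  have h := Unram.baseChange (i := (σ₂ : L₂ →+* M).comp (W.comap (σ₂ : L₂ →+* M)).subtype) (f := (σ₁ : L₁ →+* M))
    (dominates_mid _) ((σ₂ : L₂ →+* M).injective.comp Subtype.val_injective) φ
    (fun a ha => ((W.comap _).valuation_lt_one_iff _).2 (hd2.2 a ha))
    (hg1.trans hg.symm) hF ((algebraMap K L₁).injective.comp (IsFractionRing.injective A K)) (h₁ _ hd1)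
  exact hg ▸ Unram.trans (f := (σ₂ : L₂ →+* M)) (gE := g₂) (hg.symm ▸ hW) (h₂ _ hd2) h

theorem TameExt.compositum (hgen : Subfield.closure (Set.range σ₁ ∪ Set.range σ₂) = ⊤)
    (h₁ : TameExt A K L₁) (h₂ : TameExt A K L₂) : TameExt A K M := fun W hW => by
  obtain ⟨_, hF⟩ := compositum_setup σ₁ σ₂ hgen hW
  haveI := isDVR_of_finite K hW
  set g₂ := (algebraMap K L₂).comp (algebraMap A K)
  have hg : (σ₂ : L₂ →+* M).comp g₂ = (algebraMap K M).comp (algebraMap A K) :=
    RingHom.ext fun a => σ₂.commutes _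
  have hg1 : (σ₁ : L₁ →+* M).comp ((algebraMap K L₁).comp (algebraMap A K)) = (algebraMap K M).comp (algebraMap A K) :=
    RingHom.ext fun a => σ₁.commutes _
  have hd2 := (dominates_comap (σ₂ : L₂ →+* M)).2 (hg.symm ▸ hW)
  have hd1 := (dominates_comap (σ₁ : L₁ →+* M)).2 (hg1.symm ▸ hW)
  let φ : A →+* W.comap (σ₂ : L₂ →+* M) := g₂.codRestrict _ hd2.1
  letI : Algebra L₂ M := (σ₂ : L₂ →+* M).toAlgebra
  haveI : IsScalarTower K L₂ M := IsScalarTower.of_algebraMap_eq fun x => (σ₂.commutes x).symm
  haveI : FiniteDimensional L₂ M := FiniteDimensional.right K L₂ M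
  have h : Tame W ((σ₂ : L₂ →+* M).comp (W.comap (σ₂ : L₂ →+* M)).subtype) :=
    Tame.baseChange (B := W.comap (σ₂ : L₂ →+* M)) (f := (σ₁ : L₁ →+* M)) L₂
      (dominates_mid _) φ (fun a ha => ((W.comap _).valuation_lt_one_iff _).2 (hd2.2 a ha))
      (hg1.trans hg.symm) hF ((algebraMap K L₁).injective.comp (IsFractionRing.injective A K)) (h₁ _ hd1)
  exact hg ▸ Tame.trans (f := (σ₂ : L₂ →+* M)) (gE := g₂) (hg.symm ▸ hW) (h₂ _ hd2) h

end Compositum

section Closure

variable {Ω : Type u} [Field Ω] [Algebra K Ω]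

theorem closure_sup (F₁ F₂ : IntermediateField K Ω) :
    Subfield.closure (Set.range (IntermediateField.inclusion (le_sup_left : F₁ ≤ F₁ ⊔ F₂)) ∪
      Set.range (IntermediateField.inclusion (le_sup_right : F₂ ≤ F₁ ⊔ F₂))) = ⊤ := by
  rw [eq_top_iff]
  rintro ⟨x, hx⟩ -
  set T := Subfield.closure (Set.range (IntermediateField.inclusion (le_sup_left : F₁ ≤ F₁ ⊔ F₂)) ∪
    Set.range (IntermediateField.inclusion (le_sup_right : F₂ ≤ F₁ ⊔ F₂))) with hT
  have hK : ∀ c : K, algebraMap K Ω c ∈ T.map (F₁ ⊔ F₂).val.toRingHom := fun c =>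
    ⟨_, Subfield.subset_closure (Or.inl ⟨algebraMap K F₁ c, rfl⟩), rfl⟩
  let I : IntermediateField K Ω := (T.map (F₁ ⊔ F₂).val.toRingHom).toIntermediateField hK
  have hle : F₁ ⊔ F₂ ≤ I := sup_le
    (fun y hy => ⟨_, Subfield.subset_closure (Or.inl ⟨⟨y, hy⟩, rfl⟩), rfl⟩)
    (fun y hy => ⟨_, Subfield.subset_closure (Or.inr ⟨⟨y, hy⟩, rfl⟩), rfl⟩)
  obtain ⟨w, hw, hwx⟩ := hle hx
  exact (Subtype.ext hwx : w = ⟨x, hx⟩) ▸ hw

theorem TameExt.sup (F₁ F₂ : IntermediateField K Ω) [FiniteDimensional K F₁] [FiniteDimensional K F₂]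
    (h₁ : TameExt A K F₁) (h₂ : TameExt A K F₂) : TameExt A K ↥(F₁ ⊔ F₂) :=
  TameExt.compositum (IntermediateField.inclusion le_sup_left) (IntermediateField.inclusion le_sup_right)
    (closure_sup F₁ F₂) h₁ h₂

theorem UnramExt.sup (F₁ F₂ : IntermediateField K Ω) [FiniteDimensional K F₁] [FiniteDimensional K F₂]
    (h₁ : UnramExt A K F₁) (h₂ : UnramExt A K F₂) : UnramExt A K ↥(F₁ ⊔ F₂) :=
  UnramExt.compositum (IntermediateField.inclusion le_sup_left) (IntermediateField.inclusion le_sup_right)
    (closure_sup F₁ F₂) h₁ h₂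

/-- A property of finite subextensions closed under composita extends to a Galois closure. -/
theorem exists_galois_closure (P : IntermediateField K Ω → Prop)
    (hself : P ⊥)
    (hsup : ∀ F₁ F₂ : IntermediateField K Ω, FiniteDimensional K F₁ → FiniteDimensional K F₂ → P F₁ → P F₂ → P (F₁ ⊔ F₂))
    (hL : ∀ σ : L →ₐ[K] Ω, P σ.fieldRange) :
    P (IntermediateField.normalClosure K L Ω) := by
  classical
  have key : ∀ s : Finset (L →ₐ[K] Ω), FiniteDimensional K ↥(s.sup fun σ => σ.fieldRange) ∧
      P (s.sup fun σ => σ.fieldRange) := by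
    intro s
    induction s using Finset.induction_on with
    | empty => rw [Finset.sup_empty]; exact ⟨inferInstance, hself⟩
    | insert σ s _ ih =>
      rw [Finset.sup_insert]
      haveI := ih.1
      haveI : FiniteDimensional K σ.fieldRange := σ.toLinearMap.finiteDimensional_range
      exact ⟨inferInstance, hsup _ _ inferInstance ih.1 (hL σ) ih.2⟩
  rw [show IntermediateField.normalClosure K L Ω = Finset.univ.sup (fun σ : L →ₐ[K] Ω => σ.fieldRange) from
    (Finset.sup_univ_eq_iSup _).symm]
  exact (key Finset.univ).2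

theorem tameExt_bot : TameExt A K (⊥ : IntermediateField K Ω) :=
  TameExt.of_algHom (IntermediateField.botEquiv K Ω).toAlgHom (fun V hV => (unramExt_self A K V hV).tame)

theorem unramExt_bot : UnramExt A K (⊥ : IntermediateField K Ω) :=
  UnramExt.of_algHom (IntermediateField.botEquiv K Ω).toAlgHom (unramExt_self A K)

theorem TameExt.range (σ : L →ₐ[K] Ω) (h : TameExt A K L) : TameExt A K σ.fieldRange :=
  haveI : FiniteDimensional K σ.fieldRange := σ.toLinearMap.finiteDimensional_range
  TameExt.of_algHom (AlgEquiv.ofInjectiveField σ).symm.toAlgHom h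

theorem UnramExt.range (σ : L →ₐ[K] Ω) (h : UnramExt A K L) : UnramExt A K σ.fieldRange :=
  haveI : FiniteDimensional K σ.fieldRange := σ.toLinearMap.finiteDimensional_range
  UnramExt.of_algHom (AlgEquiv.ofInjectiveField σ).symm.toAlgHom h

theorem UnramExt.normalClosure (h : UnramExt A K L) : UnramExt A K (IntermediateField.normalClosure K L Ω) :=
  exists_galois_closure (L := L) (fun F => UnramExt A K F) unramExt_bot (fun F₁ F₂ _ _ => UnramExt.sup F₁ F₂)
    (fun σ => UnramExt.range σ h)

theorem TameExt.normalClosure (h : TameExt A K L) : TameExt A K (IntermediateField.normalClosure K L Ω) :=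
  exists_galois_closure (L := L) (fun F => TameExt A K F) tameExt_bot (fun F₁ F₂ _ _ => TameExt.sup F₁ F₂)
    (fun σ => TameExt.range σ h)

end Closure

end Groth.Agent.EtRam46
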