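import Groth.Agent.EtRam46.Val
import Mathlib.RingTheory.Unramified.Field
import Mathlib.RingTheory.Unramified.Finite
import Mathlib.RingTheory.Artinian.Algebra
import Mathlib.RingTheory.Ideal.GoingUp

/-!
# The generation criterion

A subring `C` of the valuation ring, with fraction field everything and `C / tC` absolutely flat, shows
that `t` is a uniformizer and that `C` surjects onto the residue field.
-/

set_option linter.style.haveILetI false
set_option linter.unusedSectionVars false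

namespace Groth.Agent.EtRam46

open IsLocalRing Polynomial

universe u

/-- A reduced Artinian ring is absolutely flat. -/
theorem exists_regular {R : Type u} [CommRing R] [IsArtinianRing R] [IsReduced R] (x : R) :
    ∃ d, x * (1 - x * d) = 0 := by
  obtain ⟨n, d, h⟩ := IsArtinian.exists_pow_succ_smul_dvd x (1 : R)
  refine ⟨d, IsNilpotent.eq_zero ⟨n + 1, ?_⟩⟩
  rw [smul_eq_mul, smul_eq_mul, mul_one] at h
  have hz : x ^ n * (1 - x * d) = 0 := by
    rw [Nat.succ_eq_add_one] at h
    linear_combination -h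
  have : (x * (1 - x * d)) ^ (n + 1) = x ^ n * (1 - x * d) * (x * (1 - x * d) ^ n) := by
    rw [mul_pow, pow_succ, pow_succ]; ring
  rw [this, hz, zero_mul]

/-- An algebra over a field generated by roots of separable polynomials is absolutely flat. -/
theorem exists_regular_of_separable {κ R : Type u} [Field κ] [CommRing R] [Algebra κ R] {S : Set R}
    (hS : ∀ s ∈ S, ∃ P : κ[X], P.Separable ∧ aeval s P = 0) (x : R) (hx : x ∈ Algebra.adjoin κ S) :
    ∃ d ∈ Algebra.adjoin κ S, x * (1 - x * d) = 0 := by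
  classical
  obtain ⟨T, hTS, hxT⟩ : ∃ T : Finset R, (T : Set R) ⊆ S ∧ x ∈ Algebra.adjoin κ (T : Set R) := by
    induction hx using Algebra.adjoin_induction with
    | mem y hy => exact ⟨{y}, by simpa using hy, Algebra.subset_adjoin (by simp)⟩
    | algebraMap r => exact ⟨∅, by simp, Subalgebra.algebraMap_mem _ _⟩
    | add y z _ _ hy hz =>
      obtain ⟨T₁, h₁, h₁'⟩ := hy; obtain ⟨T₂, h₂, h₂'⟩ := hz
      exact ⟨T₁ ∪ T₂, by simp [h₁, h₂], add_mem
        (Algebra.adjoin_mono (by simp) h₁') (Algebra.adjoin_mono (by simp) h₂')⟩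
    | mul y z _ _ hy hz =>
      obtain ⟨T₁, h₁, h₁'⟩ := hy; obtain ⟨T₂, h₂, h₂'⟩ := hz
      exact ⟨T₁ ∪ T₂, by simp [h₁, h₂], mul_mem
        (Algebra.adjoin_mono (by simp) h₁') (Algebra.adjoin_mono (by simp) h₂')⟩
  let R' := Algebra.adjoin κ (T : Set R)
  have hint : ∀ s ∈ (T : Set R), IsIntegral κ s := fun s hs => by
    obtain ⟨P, hP, h0⟩ := hS s (hTS hs)
    exact (show IsAlgebraic κ s from ⟨P, hP.ne_zero, h0⟩).isIntegral
  haveI : Module.Finite κ R' := Algebra.finite_adjoin_of_finite_of_isIntegral T.finite_toSet hint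
  haveI : Algebra.FormallyUnramified κ R' := by
    refine ⟨?_⟩
    have hall : ∀ (y : R) (hy : y ∈ R'), KaehlerDifferential.D κ R' ⟨y, hy⟩ = 0 := by
      intro y hy
      induction hy using Algebra.adjoin_induction with
      | mem s hs =>
        obtain ⟨P, hP, h0⟩ := hS s (hTS hs)
        obtain ⟨a, b, hab⟩ := hP
        let s' : R' := ⟨s, Algebra.subset_adjoin hs⟩
        have h0' : aeval s' P = 0 := Subtype.ext ((aeval_algHom_apply R'.val s' P).symm.trans h0)
        have h1 : aeval s' (derivative P) • KaehlerDifferential.D κ R' s' = 0 := by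
          rw [← Derivation.map_aeval, h0', map_zero]
        have h2 : aeval s' b * aeval s' (derivative P) = 1 := by
          have := congrArg (aeval s') hab
          rwa [map_add, map_mul, map_mul, h0', mul_zero, zero_add, map_one] at this
        have := congrArg (aeval s' b • ·) h1
        simp only [smul_smul, h2, one_smul, smul_zero] at this
        exact this
      | algebraMap r => exact Derivation.map_algebraMap _ r
      | add y z hy' hz' hy hz =>
        rw [show (⟨y + z, _⟩ : R') = ⟨y, hy'⟩ + ⟨z, hz'⟩ from rfl, map_add, hy, hz, add_zero]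
      | mul y z hy' hz' hy hz =>
        rw [show (⟨y * z, _⟩ : R') = ⟨y, hy'⟩ * ⟨z, hz'⟩ from rfl, Derivation.leibniz, hy, hz, smul_zero,
          smul_zero, add_zero]
    have htop : (⊤ : Submodule R' (Ω[R'⁄κ])) = ⊥ := by
      rw [← KaehlerDifferential.span_range_derivation, Submodule.span_eq_bot]
      rintro _ ⟨y, rfl⟩
      exact hall y.1 y.2
    exact (Submodule.subsingleton_iff R').1 (subsingleton_of_bot_eq_top htop.symm)
  haveI : IsReduced R' := Algebra.FormallyUnramified.isReduced_of_field κ R'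
  haveI : IsArtinianRing R' := IsArtinianRing.of_finite κ R'
  obtain ⟨d, hd⟩ := exists_regular (⟨x, hxT⟩ : R')
  exact ⟨d, Algebra.adjoin_mono hTS d.2, congrArg Subtype.val hd⟩


variable {M : Type u} [Field M] {W : ValuationSubring M}

/-- **The criterion.** -/
theorem core [IsDiscreteValuationRing W] (C : Subring M) (hC : C ≤ W.toSubring)
    (hF : Subfield.closure (C : Set M) = ⊤) {t : M} (htC : t ∈ C) (ht : W.valuation t < 1) (ht0 : t ≠ 0)
    (hreg : ∀ c ∈ C, ∃ d ∈ C, ∃ r ∈ C, c * (1 - c * d) = t * r) :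
    Uni W t ∧ ∀ x ∈ W, ∃ c ∈ C, W.valuation (x - c) < 1 := by
  obtain ⟨τ, hτ⟩ := exists_uni (W := W)
  obtain ⟨m, hm⟩ := hτ.exists_pow (hC htC) ht0
  have hm0 : m ≠ 0 := (pow_lt_one_iff hτ.1 hτ.2.1).1 (hm ▸ ht)
  have key : ∀ n : ℕ, ∀ c ∈ C, c ≠ 0 → W.valuation c = W.valuation τ ^ n → ∃ k : ℕ, ∃ a ∈ C, ∃ b ∈ C,
      W.valuation a = 1 ∧ W.valuation b = 1 ∧ c * b = t ^ k * a := by
    intro n
    induction n using Nat.strong_induction_on with
    | _ n ih =>
      intro c hc hc0 hn
      rcases eq_or_ne n 0 with rfl | hn0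
      · exact ⟨0, c, hc, 1, C.one_mem, by simpa using hn, map_one _, by simp⟩
      obtain ⟨d, hd, r, hr, he⟩ := hreg c hc
      have hlt : W.valuation (c * d) < 1 := by
        rw [map_mul]
        exact lt_of_le_of_lt (mul_le_of_le_one_right' ((W.valuation_le_one_iff d).2 (hC hd)))
          (hn ▸ (pow_lt_one_iff hτ.1 hτ.2.1).2 hn0)
      have hs : W.valuation (1 - c * d) = 1 := W.valuation.map_one_sub_of_lt hlt
      have hr0 : r ≠ 0 := by
        rintro rfl
        rw [mul_zero, mul_eq_zero, or_iff_right hc0] at he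
        rw [he, map_zero] at hs
        exact zero_ne_one hs
      obtain ⟨l, hl⟩ := hτ.exists_pow (hC hr) hr0
      have hsum : n = m + l := by
        refine pow_inj hτ.1 hτ.2.1 ?_
        rw [pow_add, ← hm, ← hl, ← map_mul, ← he, map_mul, hs, mul_one, hn]
      obtain ⟨k, a, ha, b, hb, ha1, hb1, hab⟩ := ih l (by omega) r hr hr0 hl
      refine ⟨k + 1, a, ha, (1 - c * d) * b, C.mul_mem (C.sub_mem C.one_mem (C.mul_mem hc hd)) hb, ha1,
        by rw [map_mul, hs, hb1, one_mul], ?_⟩
      rw [← mul_assoc, he, mul_assoc, hab, pow_succ]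
      ring
  have frac : ∀ x : M, x ≠ 0 → ∃ k l : ℕ, ∃ a ∈ C, ∃ b ∈ C,
      W.valuation a = 1 ∧ W.valuation b = 1 ∧ x * (t ^ l * b) = t ^ k * a := by
    intro x hx
    obtain ⟨p, hp, q, hq, he⟩ := Subfield.mem_closure_iff.1 (hF ▸ Subfield.mem_top x)
    rw [Subring.closure_eq] at hp hq
    have hp0 : p ≠ 0 := fun h => hx (by rw [← he, h, zero_div])
    have hq0 : q ≠ 0 := fun h => hx (by rw [← he, h, div_zero])
    obtain ⟨n, hn⟩ := hτ.exists_pow (hC hp) hp0
    obtain ⟨n', hn'⟩ := hτ.exists_pow (hC hq) hq0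
    obtain ⟨k, a, ha, b, hb, ha1, hb1, hab⟩ := key n p hp hp0 hn
    obtain ⟨l, a', ha', b', hb', ha1', hb1', hab'⟩ := key n' q hq hq0 hn'
    refine ⟨k, l, a * b', C.mul_mem ha hb', a' * b, C.mul_mem ha' hb, by rw [map_mul, ha1, hb1', one_mul],
      by rw [map_mul, ha1', hb1, one_mul], ?_⟩
    rw [← mul_assoc (t ^ l), ← hab', ← mul_assoc (t ^ k), ← hab, ← he]
    field_simp
  have hpow : ∀ (k l : ℕ) (a b x : M), W.valuation a = 1 → W.valuation b = 1 → x * (t ^ l * b) = t ^ k * a →
      W.valuation x * W.valuation t ^ l = W.valuation t ^ k := by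
    intro k l a b x ha hb he
    have := congrArg W.valuation he
    rwa [map_mul, map_mul, map_mul, map_pow, map_pow, ha, hb, mul_one, mul_one] at this
  have htne : W.valuation t ≠ 0 := (Valuation.ne_zero_iff _).2 ht0
  have hlt : ∀ (k l : ℕ) (x : M), W.valuation x * W.valuation t ^ l = W.valuation t ^ k →
      W.valuation x < 1 → l < k := by
    intro k l x he hx
    by_contra hn
    have h1 : W.valuation t ^ l ≤ W.valuation t ^ k := (pow_le_pow_iff ht ht0).2 (not_lt.1 hn)
    rw [← he] at h1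
    exact not_le.2 (mul_lt_of_lt_one_left (zero_lt_iff.2 (pow_ne_zero l htne)) hx) h1
  refine ⟨⟨ht, ht0, fun x hx => ?_⟩, fun x hx => ?_⟩
  · rcases eq_or_ne x 0 with rfl | hx0
    · simp
    obtain ⟨k, l, a, -, b, -, ha, hb, he⟩ := frac x hx0
    have h := hpow k l a b x ha hb he
    have hkl := hlt k l x h hx
    have h2 : W.valuation x * W.valuation t ^ l ≤ W.valuation t * W.valuation t ^ l := by
      rw [h, ← pow_succ']; exact (pow_le_pow_iff ht ht0).2 hkl
    exact le_of_mul_le_mul_right h2 (zero_lt_iff.2 (pow_ne_zero l htne))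
  · rcases lt_or_eq_of_le ((W.valuation_le_one_iff x).2 hx) with h1 | h1
    · exact ⟨0, C.zero_mem, by simpa using h1⟩
    have hx0 : x ≠ 0 := fun h => by rw [h, map_zero] at h1; exact zero_ne_one h1
    obtain ⟨k, l, a, haC, b, hbC, ha, hb, he⟩ := frac x hx0
    have h := hpow k l a b x ha hb he
    rw [h1, one_mul] at h
    obtain rfl := pow_inj ht ht0 h
    have hxb : x * b = a := mul_left_cancel₀ (pow_ne_zero l ht0) (by rw [← he]; ring)
    obtain ⟨d, hd, r, hr, her⟩ := hreg b hbC
    refine ⟨a * d, C.mul_mem haC hd, ?_⟩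
    have hb' : W.valuation (1 - b * d) < 1 := by
      have := congrArg W.valuation her
      rw [map_mul, hb, one_mul, map_mul] at this
      rw [this]
      exact lt_of_le_of_lt (mul_le_of_le_one_right' ((W.valuation_le_one_iff r).2 (hC hr))) ht
    rw [show x - a * d = x * (1 - b * d) by rw [← hxb]; ring, map_mul, h1, one_mul]
    exact hb'

variable {B : Type u} [CommRing B] [IsDomain B] [IsDiscreteValuationRing B] {i : B →+* M}

/-- Separability of all residues from that of the generators. -/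
theorem sep_of_gen (hd : EtRam.Dominates B i W) (S : Set M) (hS : ∀ s ∈ S, s ∈ W)
    (hres : ∀ x ∈ W, ∃ c ∈ Subring.closure (Set.range i ∪ S), W.valuation (x - c) < 1)
    (hP : ∀ s ∈ S, ∃ P : B[X], P.Monic ∧ (P.map (residue B)).Separable ∧ W.valuation (P.eval₂ i s) < 1) :
    Sep W i := by
  have hC : Subring.closure (Set.range i ∪ S) ≤ W.toSubring := Subring.closure_le.2 (Set.union_subset
    (by rintro _ ⟨b, rfl⟩; exact hd.1 b) hS)
  let iW : B →+* W := i.codRestrict W hd.1
  letI := iW.toAlgebra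
  haveI : IsLocalHom (algebraMap B W) := ⟨fun b hb => by
    by_contra hn
    exact (hd.2 b ((mem_maximalIdeal _).2 hn)).ne ((W.valuation_eq_one_iff _).1 hb)⟩
  rw [sep_iff (fun b => rfl)]
  refine ⟨fun x => ?_⟩
  obtain ⟨x, rfl⟩ := residue_surjective x
  obtain ⟨c, hc, hxc⟩ := hres x x.2
  rw [show residue W x = residue W ⟨c, hC hc⟩ from sub_eq_zero.1 (by
    rw [← map_sub, residue_eq_zero_iff]; exact hxc)]
  rw [← mem_separableClosure_iff]
  let Fs := separableClosure (ResidueField B) (ResidueField W)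
  have hle : Subring.closure (Set.range i ∪ S) ≤ (Fs.toSubfield.toSubring.comap (residue W)).map
      W.subtype := by
    refine Subring.closure_le.2 ?_
    rintro y (⟨b, rfl⟩ | hy)
    · refine ⟨iW b, ?_, rfl⟩
      show residue W (iW b) ∈ Fs
      exact IntermediateField.algebraMap_mem Fs (residue B b)
    · refine ⟨⟨y, hS y hy⟩, ?_, rfl⟩
      show residue W ⟨y, hS y hy⟩ ∈ Fs
      exact mem_separableClosure_iff.2 ((isSeparable_residue_iff (g := i) (fun b => rfl) _).2 (hP y hy))
  obtain ⟨w, hw, hwc⟩ := hle hc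
  obtain rfl : w = ⟨c, hC hc⟩ := Subtype.ext hwc
  exact hw

/-- **The criterion, with generators.** -/
theorem core_gen [IsDiscreteValuationRing W] (hd : EtRam.Dominates B i W) (S : Set M) (hS : ∀ s ∈ S, s ∈ W)
    (hF : Subfield.closure (Set.range i ∪ S) = ⊤) {t : M} (ht : W.valuation t < 1) (ht0 : t ≠ 0)
    (htC : t ∈ Subring.closure (Set.range i ∪ S))
    (hm : ∀ b ∈ maximalIdeal B, ∃ r ∈ Subring.closure (Set.range i ∪ S), i b = t * r)
    (hP : ∀ s ∈ S, ∃ P : B[X], P.Monic ∧ (P.map (residue B)).Separable ∧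
      ∃ r ∈ Subring.closure (Set.range i ∪ S), P.eval₂ i s = t * r) :
    Uni W t ∧ Sep W i := by
  set C := Subring.closure (Set.range i ∪ S)
  have hC : C ≤ W.toSubring := Subring.closure_le.2 (Set.union_subset
    (by rintro _ ⟨b, rfl⟩; exact hd.1 b) hS)
  have hF' : Subfield.closure (C : Set M) = ⊤ :=
    eq_top_iff.2 (hF ▸ Subfield.closure_mono Subring.subset_closure)
  let tC : C := ⟨t, htC⟩
  let π : C →+* C ⧸ Ideal.span {tC} := Ideal.Quotient.mk _
  let iC : B →+* C := i.codRestrict C fun b => Subring.subset_closure (Or.inl ⟨b, rfl⟩)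
  have hzero : ∀ (c : C) (r : M), r ∈ C → (c : M) = t * r → π c = 0 := fun c r hr he =>
    Ideal.Quotient.eq_zero_iff_mem.2 (Ideal.mem_span_singleton'.2 ⟨⟨r, hr⟩, Subtype.ext (by
      show r * t = (c : M); rw [he, mul_comm])⟩)
  let φ : ResidueField B →+* C ⧸ Ideal.span {tC} := Ideal.Quotient.lift _ (π.comp iC) fun b hb =>
    let ⟨r, hr, he⟩ := hm b hb; hzero (iC b) r hr he
  have hφ : ∀ b, φ (residue B b) = π (iC b) := fun b => rfl
  letI := φ.toAlgebra
  let S' : Set (C ⧸ Ideal.span {tC}) := π '' {c : C | (c : M) ∈ S}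
  have hS' : ∀ s ∈ S', ∃ P : (ResidueField B)[X], P.Separable ∧ aeval s P = 0 := by
    rintro _ ⟨c, hc, rfl⟩
    obtain ⟨P, -, hsep, r, hr, he⟩ := hP _ hc
    refine ⟨_, hsep, ?_⟩
    rw [aeval_def, eval₂_map, show (algebraMap (ResidueField B) (C ⧸ Ideal.span {tC})).comp (residue B) = π.comp iC from
      RingHom.ext hφ, ← hom_eval₂]
    refine hzero _ r hr ?_
    rw [← he]
    exact hom_eval₂ P iC C.subtype c
  have hmemC : ∀ c : C, π c ∈ Algebra.adjoin (ResidueField B) S' := by
    rintro ⟨c, hc⟩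
    induction hc using Subring.closure_induction with
    | mem y hy =>
      rcases hy with ⟨b, rfl⟩ | hy
      · exact Subalgebra.algebraMap_mem (Algebra.adjoin (ResidueField B) S') (residue B b)
      · exact Algebra.subset_adjoin ⟨⟨y, Subring.subset_closure (Or.inr hy)⟩, hy, rfl⟩
    | zero => exact (show π (0 : C) = 0 from map_zero π) ▸ Subalgebra.zero_mem _
    | one => exact (show π (1 : C) = 1 from map_one π) ▸ Subalgebra.one_mem _
    | add y z hy hz h1 h2 =>
      show π (⟨y, hy⟩ + ⟨z, hz⟩) ∈ _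
      rw [map_add]; exact add_mem h1 h2
    | neg y hy h1 =>
      show π (-⟨y, hy⟩) ∈ _
      rw [map_neg]; exact neg_mem h1
    | mul y z hy hz h1 h2 =>
      show π (⟨y, hy⟩ * ⟨z, hz⟩) ∈ _
      rw [map_mul]; exact mul_mem h1 h2
  obtain ⟨hu, hres⟩ := core C hC hF' htC ht ht0 fun c hc => by
    obtain ⟨d, -, hd'⟩ := exists_regular_of_separable hS' _ (hmemC ⟨c, hc⟩)
    obtain ⟨d, rfl⟩ := Ideal.Quotient.mk_surjective d
    rw [← map_mul, ← map_one π, ← map_sub, ← map_mul, Ideal.Quotient.eq_zero_iff_mem,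
      Ideal.mem_span_singleton'] at hd'
    obtain ⟨r, hr⟩ := hd'
    exact ⟨d, d.2, r, r.2, (congrArg Subtype.val hr).symm.trans (mul_comm (r : M) t)⟩
  refine ⟨hu, sep_of_gen hd S hS hres fun y hy => ?_⟩
  obtain ⟨P, h1, h2, r, hr, he⟩ := hP y hy
  refine ⟨P, h1, h2, ?_⟩
  rw [he, map_mul]
  exact lt_of_le_of_lt (mul_le_of_le_one_right' ((W.valuation_le_one_iff r).2 (hC hr))) ht

end Groth.Agent.EtRam46
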