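import Groth.Agent.EtRam46.Tower
import Mathlib.RingTheory.Unramified.Field
import Mathlib.RingTheory.Unramified.Finite
import Mathlib.RingTheory.Etale.Basic

/-!
# Places of a field generated by a finite unramified algebra
-/

set_option linter.style.haveILetI false
set_option linter.unusedSectionVars false

namespace Groth.Agent.EtRam46

open IsLocalRing Polynomial TensorProduct

universe u

variable {A : Type u} [CommRing A] [IsDomain A] [IsDiscreteValuationRing A]
  {C : Type u} [CommRing C] [Algebra A C] [Module.Finite A C] [Algebra.FormallyUnramified A C]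
  {M : Type u} [Field M] {g : A →+* M} {V : ValuationSubring M}

/-- A field generated by the image of a finite unramified `A`-algebra is unramified at every place over `A`. -/
theorem unram_of_hom [IsDiscreteValuationRing V] (hg : Function.Injective g)
    (hd : EtRam.Dominates A g V) (c : C →+* M) (hc : c.comp (algebraMap A C) = g)
    (hgen : Subfield.closure (Set.range c) = ⊤) : Unram V g := by
  obtain ⟨π, hπ⟩ := IsDiscreteValuationRing.exists_irreducible A
  have hgc : ∀ a, g a = c (algebraMap A C a) := fun a => (RingHom.congr_fun hc a).symm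
  have hCV : ∀ x, c x ∈ V := fun x => by
    obtain ⟨P, hP, hP0⟩ := Algebra.IsIntegral.isIntegral (R := A) x
    letI := (g.codRestrict V hd.1).toAlgebra
    letI : Algebra A M := g.toAlgebra
    haveI : IsScalarTower A V M := IsScalarTower.of_algebraMap_eq fun a => rfl
    have hint : IsIntegral A (c x) := ⟨P, hP, by
      show P.eval₂ g (c x) = 0
      rw [← hc, ← hom_eval₂, hP0, map_zero]⟩
    obtain ⟨y, hy⟩ := IsIntegrallyClosed.isIntegral_iff.1 (hint.tower_top (A := V))
    exact hy ▸ y.2
  let I : Ideal C := (maximalIdeal A).map (algebraMap A C)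
  let φ : ResidueField A →+* C ⧸ I := Ideal.Quotient.lift _ ((Ideal.Quotient.mk I).comp (algebraMap A C))
    fun a ha => Ideal.Quotient.eq_zero_iff_mem.2 (Ideal.mem_map_of_mem _ ha)
  letI : Algebra (ResidueField A) (C ⧸ I) := φ.toAlgebra
  haveI : IsScalarTower A (ResidueField A) (C ⧸ I) := IsScalarTower.of_algebraMap_eq fun a => rfl
  haveI : Module.Finite A (C ⧸ I) :=
    Module.Finite.of_surjective (Ideal.Quotient.mkₐ A I).toLinearMap Ideal.Quotient.mk_surjective
  haveI : Module.Finite (ResidueField A) (C ⧸ I) := Module.Finite.of_restrictScalars_finite A _ _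
  haveI : Algebra.FormallyUnramified A (C ⧸ I) :=
    Algebra.FormallyUnramified.of_surjective (Ideal.Quotient.mkₐ A I) Ideal.Quotient.mk_surjective
  haveI : Algebra.FormallyUnramified (ResidueField A) (C ⧸ I) :=
    Algebra.FormallyUnramified.of_restrictScalars A _ _
  haveI : IsReduced (C ⧸ I) := Algebra.FormallyUnramified.isReduced_of_field (ResidueField A) _
  haveI : IsArtinianRing (C ⧸ I) := IsArtinianRing.of_finite (ResidueField A) _
  have hI : I = Ideal.span {algebraMap A C π} := by
    show (maximalIdeal A).map _ = _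
    rw [hπ.maximalIdeal_eq, Ideal.map_span, Set.image_singleton]
  have hgπ : V.valuation (g π) < 1 := hd.2 π ((mem_maximalIdeal _).2 hπ.1)
  have hgπ0 : g π ≠ 0 := fun h => hπ.ne_zero (hg (h.trans (map_zero g).symm))
  have hF : Subfield.closure (c.range : Set M) = ⊤ := by rw [RingHom.coe_range]; exact hgen
  obtain ⟨hu, hres⟩ := core c.range (by rintro _ ⟨x, rfl⟩; exact hCV x) hF
    (t := g π) ⟨algebraMap A C π, (hgc π).symm⟩ hgπ hgπ0 fun x hx => by
      obtain ⟨x, rfl⟩ := hx
      obtain ⟨d, hd'⟩ := exists_regular (Ideal.Quotient.mk I x)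
      obtain ⟨d, rfl⟩ := Ideal.Quotient.mk_surjective d
      rw [← map_mul, ← map_one (Ideal.Quotient.mk I), ← map_sub, ← map_mul, Ideal.Quotient.eq_zero_iff_mem,
        hI, Ideal.mem_span_singleton'] at hd'
      obtain ⟨r, hr⟩ := hd'
      refine ⟨c d, ⟨d, rfl⟩, c r, ⟨r, rfl⟩, ?_⟩
      have := congrArg c hr
      simp only [map_mul, map_sub, map_one] at this
      rw [← this, hgc]; ring
  refine ⟨?_, ⟨π, g π, hπ, hu, (pow_one _).symm⟩⟩
  letI : Algebra A V := (g.codRestrict V hd.1).toAlgebra
  haveI : IsLocalHom (algebraMap A V) := ⟨fun a ha => by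
    by_contra hn
    exact (hd.2 a ((mem_maximalIdeal _).2 hn)).ne ((V.valuation_eq_one_iff _).1 ha)⟩
  rw [sep_iff (fun a => rfl)]
  let cV : C →+* V := c.codRestrict V.toSubring hCV
  let ψ : C ⧸ I →+* ResidueField V := Ideal.Quotient.lift I ((residue V).comp cV) fun x hx => by
    rw [hI, Ideal.mem_span_singleton'] at hx
    obtain ⟨r, rfl⟩ := hx
    rw [RingHom.comp_apply, residue_eq_zero_iff]
    show V.valuation (c (r * algebraMap A C π)) < 1
    rw [map_mul, ← hgc, map_mul]
    exact lt_of_le_of_lt (mul_le_of_le_one_left' ((V.valuation_le_one_iff _).2 (hCV r))) hgπ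
  have hψs : Function.Surjective ψ := fun y => by
    obtain ⟨y, rfl⟩ := residue_surjective y
    obtain ⟨_, ⟨x, rfl⟩, hxy⟩ := hres y y.2
    refine ⟨Ideal.Quotient.mk I x, ?_⟩
    show residue V (cV x) = residue V y
    refine (sub_eq_zero.1 ?_).symm
    rw [← map_sub, residue_eq_zero_iff]
    exact hxy
  let ψₐ : C ⧸ I →ₐ[ResidueField A] ResidueField V := { ψ with
    commutes' := fun a => by
      obtain ⟨a, rfl⟩ := residue_surjective a
      show residue V (cV (algebraMap A C a)) = residue V (algebraMap A V a)
      exact congrArg (residue V) (Subtype.ext (hgc a).symm) }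
  haveI : Algebra.FormallyUnramified (ResidueField A) (ResidueField V) :=
    Algebra.FormallyUnramified.of_surjective ψₐ hψs
  haveI : Module.Finite (ResidueField A) (ResidueField V) :=
    Module.Finite.of_surjective ψₐ.toLinearMap hψs
  exact Algebra.FormallyUnramified.isSeparable (ResidueField A) (ResidueField V)

end Groth.Agent.EtRam46
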