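import Groth.Agent.EtRam46.Abhyankar
import Groth.Agent.DVR7.Basic

/-!
# Abhyankar's lemma for the local extensions attached to `K₁/K`
-/

set_option linter.style.haveILetI false
set_option linter.unusedSectionVars false

namespace Groth.Agent.EtRam46

open IsLocalRing TensorProduct

universe u

/-- A field generated over `L` by the image of a finite extension of `K` is finite over `L`. -/
theorem finite_compositum {K L K₁ M : Type u} [Field K] [Field L] [Field K₁] [Field M] [Algebra K L] [Algebra K K₁]
    [Algebra K M] [Algebra L M] [Algebra K₁ M] [IsScalarTower K L M] [IsScalarTower K K₁ M] [FiniteDimensional K K₁]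
    (hgen : Algebra.adjoin L (Set.range (algebraMap K₁ M)) = ⊤) : FiniteDimensional L M := by
  let φ : L ⊗[K] K₁ →ₐ[L] M :=
    Algebra.TensorProduct.lift (Algebra.ofId L M) (IsScalarTower.toAlgHom K K₁ M) fun _ _ => mul_comm _ _
  refine Module.Finite.of_surjective φ.toLinearMap (?_ : Function.Surjective φ)
  rw [← AlgHom.range_eq_top, eq_top_iff, ← hgen, Algebra.adjoin_le_iff]
  rintro _ ⟨x, rfl⟩
  exact ⟨1 ⊗ₜ x, by rw [AlgHom.toRingHom_eq_coe, RingHom.coe_coe, Algebra.TensorProduct.lift_tmul, map_one, one_mul]; rfl⟩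

variable (A B K L : Type u) [CommRing A] [IsDomain A] [IsDiscreteValuationRing A]
    [CommRing B] [IsDomain B] [IsDiscreteValuationRing B] [Algebra A B] [IsLocalHom (algebraMap A B)]
    [Field K] [Field L] [Algebra A K] [IsFractionRing A K] [Algebra B L] [IsFractionRing B L]
    [Algebra K L] [Algebra A L] [IsScalarTower A K L] [IsScalarTower A B L]
    (K₁ : Type u) [Field K₁] [Algebra K K₁] [FiniteDimensional K K₁]
    {M : Type u} [Field M] [Algebra K M] [Algebra L M] [Algebra K₁ M] [IsScalarTower K L M] [IsScalarTower K K₁ M]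

/-- The setting of a local extension attached to `K₁/K`. -/
theorem localExt_setup (hinj : Function.Injective (algebraMap A B))
    (hgen : Algebra.adjoin L (Set.range (algebraMap K₁ M)) = ⊤) (W : ValuationSubring M)
    (hd : EtRam.Dominates B ((algebraMap L M).comp (algebraMap B L)) W) :
    IsDiscreteValuationRing W ∧
    IsDiscreteValuationRing (W.comap (algebraMap K₁ M)) ∧
    EtRam.Dominates A ((algebraMap K K₁).comp (algebraMap A K)) (W.comap (algebraMap K₁ M)) ∧
    Function.Injective ((algebraMap L M).comp (algebraMap B L)) ∧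
    (∀ a, (algebraMap L M).comp (algebraMap B L) (algebraMap A B a) =
      algebraMap K₁ M ((algebraMap K K₁).comp (algebraMap A K) a)) ∧
    Subfield.closure (Set.range ((algebraMap L M).comp (algebraMap B L)) ∪ Set.range (algebraMap K₁ M)) = ⊤ := by
  haveI := finite_compositum (K := K) hgen
  haveI : IsDiscreteValuationRing W := isDVR_of_finite L hd
  have hcompat : ∀ a, (algebraMap L M).comp (algebraMap B L) (algebraMap A B a) =
      algebraMap K₁ M ((algebraMap K K₁).comp (algebraMap A K) a) := fun a => by
    rw [RingHom.comp_apply, RingHom.comp_apply, ← IsScalarTower.algebraMap_apply A B L,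
      IsScalarTower.algebraMap_apply A K L, ← IsScalarTower.algebraMap_apply K L M,
      ← IsScalarTower.algebraMap_apply K K₁ M]
  have hd' : EtRam.Dominates A ((algebraMap K₁ M).comp ((algebraMap K K₁).comp (algebraMap A K))) W :=
    ⟨fun a => by rw [RingHom.comp_apply, ← hcompat]; exact hd.1 _, fun a ha => by
      rw [RingHom.comp_apply, ← hcompat]
      exact hd.2 _ (map_nonunit (algebraMap A B) a ha)⟩
  refine ⟨inferInstance, isDVR_comap_of_dominates hd' ((algebraMap K K₁).injective.comp
    (IsFractionRing.injective A K)), (dominates_comap _).2 hd',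
    (algebraMap L M).injective.comp (IsFractionRing.injective B L), hcompat, ?_⟩
  set S := Set.range ((algebraMap L M).comp (algebraMap B L)) ∪ Set.range (algebraMap K₁ M)
  rw [eq_top_iff]
  suffices key : ∀ x ∈ Algebra.adjoin L (Set.range (algebraMap K₁ M)), x ∈ Subfield.closure S from
    fun x _ => key x (hgen ▸ Algebra.mem_top)
  intro x hx
  induction hx using Algebra.adjoin_induction with
  | mem y hy => exact Subfield.subset_closure (Or.inr hy)
  | algebraMap r =>
    obtain ⟨b, d, -, rfl⟩ := IsFractionRing.div_surjective (A := B) r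
    rw [map_div₀]
    exact div_mem (Subfield.subset_closure (Or.inl ⟨b, rfl⟩)) (Subfield.subset_closure (Or.inl ⟨d, rfl⟩))
  | add y z _ _ hy hz => exact add_mem hy hz
  | mul y z _ _ hy hz => exact mul_mem hy hz

/-- **Abhyankar's lemma** for one local extension. -/
theorem abhyankar_localExt (hinj : Function.Injective (algebraMap A B))
    (hgen : Algebra.adjoin L (Set.range (algebraMap K₁ M)) = ⊤) (W : ValuationSubring M)
    (hd : EtRam.Dominates B ((algebraMap L M).comp (algebraMap B L)) W)
    (he : (Ideal.ramificationIdx' (maximalIdeal A) (maximalIdeal B) : ResidueField A) ≠ 0)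
    [Algebra A (W.comap (algebraMap K₁ M))]
    (hA : ∀ a, ((algebraMap A (W.comap (algebraMap K₁ M)) a : W.comap (algebraMap K₁ M)) : K₁) =
      algebraMap K K₁ (algebraMap A K a))
    [IsLocalHom (algebraMap A (W.comap (algebraMap K₁ M)))]
    (hdvd : Ideal.ramificationIdx' (maximalIdeal A) (maximalIdeal B) ∣
      Ideal.ramificationIdx' (maximalIdeal A) (maximalIdeal (W.comap (algebraMap K₁ M))))
    [IsReduced (ResidueField (W.comap (algebraMap K₁ M)) ⊗[ResidueField A] ResidueField B)] :
    (letI : Algebra (W.comap (algebraMap K₁ M)) W := (EtRam.inclOfComap W (algebraMap K₁ M)).toAlgebra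
     EtRam.IsWeaklyUnramified (W.comap (algebraMap K₁ M)) W) ∧
    (Algebra.IsGeometricallyReduced (ResidueField A) (ResidueField B) →
      @Algebra.IsGeometricallyReduced (ResidueField (W.comap (algebraMap K₁ M))) (ResidueField W) _ _
        (ResidueField.map (EtRam.inclOfComap W (algebraMap K₁ M))).toAlgebra) := by
  obtain ⟨hW, hW1, hd1, hi, hcompat, hF⟩ := localExt_setup A B K L K₁ hinj hgen W hd
  obtain ⟨π, hπ⟩ := IsDiscreteValuationRing.exists_irreducible A
  obtain ⟨ϖ, hϖ⟩ := IsDiscreteValuationRing.exists_irreducible B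
  obtain ⟨τ, hτ⟩ := IsDiscreteValuationRing.exists_irreducible (W.comap (algebraMap K₁ M))
  obtain ⟨u, hu, -⟩ := DVR7.exists_eq_unit_mul_pow hinj hπ hϖ
  have hinj1 : Function.Injective (algebraMap A (W.comap (algebraMap K₁ M))) := fun a b h =>
    IsFractionRing.injective A K ((algebraMap K K₁).injective (by rw [← hA, ← hA, h]))
  obtain ⟨v, hv, hv0⟩ := DVR7.exists_eq_unit_mul_pow hinj1 hπ hτ
  obtain ⟨m, hm⟩ := hdvd
  rw [hm] at hv hv0
  haveI := finite_residue (V := W.comap (algebraMap K₁ M)) K hA
  obtain ⟨h1, h2⟩ := abhyankar ((algebraMap L M).comp (algebraMap B L)) hd hi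
    (fun a => by rw [hcompat, hA]; rfl) hF hπ hϖ u hu he hτ v hv (right_ne_zero_of_mul hv0.ne')
  refine ⟨?_, h2⟩
  letI : Algebra (W.comap (algebraMap K₁ M)) W := (EtRam.inclOfComap W (algebraMap K₁ M)).toAlgebra
  show _ = _
  rw [hτ.maximalIdeal_eq, Ideal.map_span, Set.image_singleton, h1.irreducible.maximalIdeal_eq]
  rfl

end Groth.Agent.EtRam46
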