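import Groth.Agent.EtRam46.Core
import Groth.Agent.Hensel.EtaleReduced
import Groth.Agent.Hensel.EtaleResidueExt
import Groth.Agent.FlatLoc6.GeomRed
import Mathlib.RingTheory.Etale.Field
import Mathlib.FieldTheory.Perfect
import Mathlib.RingTheory.Nilpotent.GeometricallyReduced
import Mathlib.RingTheory.AdjoinRoot
import Mathlib.RingTheory.Ideal.IdempotentFG
import Mathlib.RingTheory.Flat.Basic

/-!
# Geometrically reduced algebras: base change, roots, quotients
-/

set_option linter.style.haveILetI false

namespace Groth.Agent.EtRam46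

open TensorProduct Polynomial

universe u

/-- Geometric reducedness survives an algebraic extension of the ground field. -/
theorem geomReduced_baseChange (k E F : Type u) [Field k] [Field E] [CommRing F] [Algebra k E] [Algebra k F]
    [Algebra.IsAlgebraic k E] [Algebra.IsGeometricallyReduced k F] :
    Algebra.IsGeometricallyReduced E (E ⊗[k] F) := by
  rw [Algebra.isGeometricallyReduced_field_iff]
  haveI : Algebra.IsAlgebraic k (AlgebraicClosure E) := Algebra.IsAlgebraic.trans k E _
  exact isReduced_of_injective (Algebra.TensorProduct.cancelBaseChange k E E (AlgebraicClosure E) F)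
    (AlgEquiv.injective _)

/-- Geometric reducedness survives étale algebras. -/
theorem geomReduced_etale (E D D' : Type u) [Field E] [CommRing D] [Algebra E D] [CommRing D'] [Algebra D D']
    [Algebra E D'] [IsScalarTower E D D'] [Algebra.Etale D D'] [Algebra.IsGeometricallyReduced E D] :
    Algebra.IsGeometricallyReduced E D' := by
  rw [Algebra.isGeometricallyReduced_field_iff]
  haveI : IsReduced (D ⊗[E] AlgebraicClosure E) :=
    isReduced_of_injective (Algebra.TensorProduct.comm E D (AlgebraicClosure E)) (AlgEquiv.injective _)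
  haveI : IsReduced ((D ⊗[E] AlgebraicClosure E) ⊗[D] D') := Hensel.isReduced_of_etale (D ⊗[E] AlgebraicClosure E) _
  let e1 : AlgebraicClosure E ⊗[E] D' ≃+* D' ⊗[E] AlgebraicClosure E :=
    (Algebra.TensorProduct.comm E _ _).toRingEquiv
  let e2 : D' ⊗[E] AlgebraicClosure E ≃+* D' ⊗[D] (D ⊗[E] AlgebraicClosure E) :=
    (Algebra.TensorProduct.cancelBaseChange E D D D' (AlgebraicClosure E)).symm.toRingEquiv
  let e3 : D' ⊗[D] (D ⊗[E] AlgebraicClosure E) ≃+* (D ⊗[E] AlgebraicClosure E) ⊗[D] D' :=
    (Algebra.TensorProduct.comm D _ _).toRingEquiv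
  exact isReduced_of_injective ((e1.trans e2).trans e3) (RingEquiv.injective _)

/-- A quotient of a reduced Artinian geometrically reduced algebra is geometrically reduced. -/
theorem geomReduced_of_surjective {E Q R : Type u} [Field E] [CommRing Q] [CommRing R] [Algebra E Q]
    [Algebra E R] [IsArtinianRing Q] [IsReduced Q] [Algebra.IsGeometricallyReduced E Q] (π : Q →ₐ[E] R)
    (hπ : Function.Surjective π) : Algebra.IsGeometricallyReduced E R := by
  rw [Algebra.isGeometricallyReduced_field_iff]
  obtain ⟨ε, hε, hspan⟩ := (Ideal.isIdempotentElem_iff_of_fg (RingHom.ker π.toRingHom) (IsNoetherian.noetherian _)).1 (by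
    refine le_antisymm Ideal.mul_le_left fun x hx => ?_
    obtain ⟨d, hd⟩ := exists_regular x
    rw [show x = x * (x * d) by linear_combination hd]
    exact Ideal.mul_mem_mul hx (Ideal.mul_mem_right _ _ hx))
  let P := Algebra.TensorProduct.map (AlgHom.id E (AlgebraicClosure E)) π
  have hP : Function.Surjective P := fun y => by
    induction y with
    | zero => exact ⟨0, map_zero _⟩
    | tmul a r => obtain ⟨q, rfl⟩ := hπ r; exact ⟨a ⊗ₜ q, rfl⟩
    | add y z hy hz => obtain ⟨a, rfl⟩ := hy; obtain ⟨b, rfl⟩ := hz; exact ⟨a + b, map_add _ _ _⟩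
  let ε' : AlgebraicClosure E ⊗[E] Q := 1 ⊗ₜ ε
  have hε' : ε' * ε' = ε' := by simp [ε', hε.eq]
  have hker : RingHom.ker P = Ideal.span {ε'} := by
    rw [Algebra.TensorProduct.lTensor_ker π hπ, show RingHom.ker π = RingHom.ker π.toRingHom from rfl, hspan,
      Ideal.submodule_span_eq, Ideal.map_span, Set.image_singleton]
    rfl
  refine ⟨fun y ⟨n, hy⟩ => ?_⟩
  obtain ⟨x, rfl⟩ := hP y
  have hx : x ^ n ∈ RingHom.ker P := by rw [RingHom.mem_ker, map_pow]; exact hy
  rw [hker, Ideal.mem_span_singleton'] at hx
  obtain ⟨r, hr⟩ := hx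
  have h0 : (x * (1 - ε')) ^ (n + 1) = 0 := by
    rw [mul_pow, pow_succ x, pow_succ (1 - ε'), ← hr]
    linear_combination (-(r * x * (1 - ε') ^ n)) * hε'
  have hx' : x ∈ RingHom.ker P := by
    rw [hker, Ideal.mem_span_singleton']
    exact ⟨x, by linear_combination -(IsNilpotent.eq_zero ⟨n + 1, h0⟩ : x * (1 - ε') = 0)⟩
  exact hx'

/-- A finite base change of a field is Artinian. -/
theorem isArtinianRing_tensor (k E F : Type u) [Field k] [Field E] [Field F] [Algebra k E] [Algebra k F]
    [FiniteDimensional k E] : IsArtinianRing (E ⊗[k] F) := by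
  haveI : IsArtinianRing (F ⊗[k] E) := IsArtinianRing.of_finite F _
  exact (Algebra.TensorProduct.comm k F E).toRingEquiv.isArtinianRing

/-- Adjoining an `e`th root of a unit is étale when `e` is invertible. -/
theorem etale_root {D : Type u} [CommRing D] {e : ℕ} (he : IsUnit (e : D)) (he0 : e ≠ 0) (c : Dˣ) :
    Algebra.Etale D (AdjoinRoot (X ^ e - C (c : D))) := by
  refine Hensel.etale_adjoinRoot (monic_X_pow_sub_C _ he0) ?_
  set r := AdjoinRoot.root (X ^ e - C (c : D))
  have hr : r ^ e = algebraMap D _ (c : D) := by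
    have := AdjoinRoot.eval₂_root (X ^ e - C (c : D))
    rwa [eval₂_sub, eval₂_X_pow, eval₂_C, sub_eq_zero] at this
  have hru : IsUnit r := (isUnit_pow_iff he0).1 (hr ▸ c.isUnit.map _)
  rw [derivative_sub, derivative_X_pow, derivative_C, sub_zero, map_mul, aeval_C, aeval_X_pow]
  exact (he.map _).mul (hru.pow _)

end Groth.Agent.EtRam46

namespace Groth.Agent.EtRam46

open TensorProduct

universe v

/-- Over a perfect field reduced algebras are geometrically reduced. -/
theorem geomReduced_of_perfectField {k F : Type v} [Field k] [PerfectField k] [CommRing F] [Algebra k F]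
    [IsReduced F] : Algebra.IsGeometricallyReduced k F := by
  refine FlatLoc6.geomReduced_of_finite fun k' _ _ hfin => ?_
  haveI : Algebra.FormallyEtale k k' := Algebra.FormallyEtale.of_isSeparable k k'
  haveI := hfin
  haveI : Algebra.FinitePresentation k k' :=
    Algebra.FinitePresentation.of_finiteType.1 inferInstance
  haveI : Algebra.Etale k k' := {}
  haveI : IsReduced (F ⊗[k] k') := Hensel.isReduced_of_etale F _
  exact isReduced_of_injective (Algebra.TensorProduct.comm k k' F) (AlgEquiv.injective _)

end Groth.Agent.EtRam46
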