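import Groth.Agent.EtRam46.Compositum
import Mathlib.RingTheory.AdjoinRoot

/-!
# Tame extensions become unramified over a root of the uniformizer
-/

set_option linter.style.haveILetI false
set_option linter.unusedSectionVars false

namespace Groth.Agent.EtRam46

open IsLocalRing Polynomial

universe u

variable {A : Type u} [CommRing A] [IsDomain A] [IsDiscreteValuationRing A] {π : A} {e : ℕ}

theorem root_pow (π : A) (e : ℕ) :
    (AdjoinRoot.root (X ^ e - C π : A[X])) ^ e = AdjoinRoot.of (X ^ e - C π : A[X]) π := by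
  have h := AdjoinRoot.eval₂_root (X ^ e - C π : A[X])
  rwa [eval₂_sub, eval₂_pow, eval₂_X, eval₂_C, sub_eq_zero] at h

theorem exists_add_root_mul (π : A) (e : ℕ) (x : AdjoinRoot (X ^ e - C π : A[X])) :
    ∃ a b, x = AdjoinRoot.of _ a + AdjoinRoot.root _ * b := by
  obtain ⟨P, rfl⟩ := AdjoinRoot.mk_surjective x
  refine ⟨P.coeff 0, AdjoinRoot.mk _ P.divX, ?_⟩
  conv_lhs => rw [← P.X_mul_divX_add]
  rw [map_add, map_mul, AdjoinRoot.mk_X, AdjoinRoot.mk_C, add_comm]

theorem span_root_eq_of_isMaximal (hπ : Irreducible π) (he : 0 < e)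
    (P : Ideal (AdjoinRoot (X ^ e - C π : A[X]))) [hP : P.IsMaximal] :
    P = Ideal.span {AdjoinRoot.root (X ^ e - C π : A[X])} := by
  haveI : Module.Finite A (AdjoinRoot (X ^ e - C π : A[X])) := (monic_X_pow_sub_C π he.ne').finite_adjoinRoot
  haveI : Algebra.IsIntegral A (AdjoinRoot (X ^ e - C π : A[X])) := Algebra.IsIntegral.of_finite A _
  have hc : P.comap (algebraMap A (AdjoinRoot (X ^ e - C π : A[X]))) = maximalIdeal A :=
    eq_maximalIdeal (Ideal.isMaximal_comap_of_isIntegral_of_isMaximal P)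
  have hπP : AdjoinRoot.of (X ^ e - C π : A[X]) π ∈ P := by
    rw [← AdjoinRoot.algebraMap_eq, ← Ideal.mem_comap, hc]
    exact (mem_maximalIdeal _).2 hπ.1
  have hr : AdjoinRoot.root (X ^ e - C π : A[X]) ∈ P := hP.isPrime.mem_of_pow_mem e (by rwa [root_pow])
  refine le_antisymm (fun x hx => ?_) (Ideal.span_le.2 (by rintro _ rfl; exact hr))
  obtain ⟨a, b, rfl⟩ := exists_add_root_mul π e x
  have ha : a ∈ maximalIdeal A := by
    rw [← hc, Ideal.mem_comap, AdjoinRoot.algebraMap_eq]
    simpa using P.sub_mem hx (P.mul_mem_right b hr)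
  rw [hπ.maximalIdeal_eq, Ideal.mem_span_singleton'] at ha
  obtain ⟨c, rfl⟩ := ha
  rw [map_mul, ← root_pow π e, Ideal.mem_span_singleton']
  refine ⟨AdjoinRoot.of _ c * AdjoinRoot.root _ ^ (e - 1) + b, ?_⟩
  have hpow : AdjoinRoot.root (X ^ e - C π : A[X]) ^ e =
      AdjoinRoot.root (X ^ e - C π : A[X]) ^ (e - 1) * AdjoinRoot.root (X ^ e - C π : A[X]) := by
    rw [← pow_succ, Nat.sub_add_cancel he]
  rw [hpow]
  ring

theorem nontrivial_adjoinRoot (he : 0 < e) (π : A) : Nontrivial (AdjoinRoot (X ^ e - C π : A[X])) :=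
  AdjoinRoot.nontrivial _ (by rw [degree_X_pow_sub_C he]; exact_mod_cast he.ne')

theorem isLocalRing_adjoinRoot (hπ : Irreducible π) (he : 0 < e) :
    IsLocalRing (AdjoinRoot (X ^ e - C π : A[X])) := by
  haveI := nontrivial_adjoinRoot he π
  obtain ⟨P, hP⟩ := Ideal.exists_maximal (AdjoinRoot (X ^ e - C π : A[X]))
  exact IsLocalRing.of_unique_max_ideal ⟨P, hP, fun Q hQ =>
    (span_root_eq_of_isMaximal hπ he Q (hP := hQ)).trans (span_root_eq_of_isMaximal hπ he P (hP := hP)).symm⟩

variable {K : Type u} [Field K] [Algebra A K] [IsFractionRing A K]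

theorem natCast_ne_zero_of_residue {n : ℕ} (h : (n : ResidueField A) ≠ 0) : (n : K) ≠ 0 := fun h0 => h (by
  rw [← map_natCast (algebraMap A K), map_eq_zero_iff _ (IsFractionRing.injective A K)] at h0
  rw [← map_natCast (residue A), h0, map_zero])

/-- The tame direction. -/
theorem exists_unramified_root {L : Type u} [Field L] [Algebra K L] [FiniteDimensional K L] [Algebra.IsSeparable K L]
    (hπ : Irreducible π) (ht : TameExt A K L) (he : 0 < e) (he' : (e : ResidueField A) ≠ 0)
    (hdvd : ∀ V : ValuationSubring L, ∀ n, EtRam.Dominates A ((algebraMap K L).comp (algebraMap A K)) V →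
      Idx V ((algebraMap K L).comp (algebraMap A K)) n → n ∣ e) :
    ∃ (L' : Type u) (_ : Field L') (_ : Algebra K L')
      (_ : Algebra (AdjoinRoot (X ^ e - C π : A[X])) L') (_ : L →ₐ[K] L'),
      FiniteDimensional K L' ∧ Algebra.IsSeparable K L' ∧
      (algebraMap (AdjoinRoot (X ^ e - C π : A[X])) L').comp (AdjoinRoot.of (X ^ e - C π)) =
        (algebraMap K L').comp (algebraMap A K) ∧
      ∀ [IsLocalRing (AdjoinRoot (X ^ e - C π : A[X]))],
        EtRam.IsUnramifiedExt (AdjoinRoot (X ^ e - C π : A[X]))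
          (algebraMap (AdjoinRoot (X ^ e - C π : A[X])) L') := by
  let Ω := AlgebraicClosure K
  let σ : L →ₐ[K] Ω := IsAlgClosed.lift
  obtain ⟨z, hz⟩ := IsAlgClosed.exists_pow_nat_eq (algebraMap K Ω (algebraMap A K π)) he
  have hπK : algebraMap A K π ≠ 0 := fun h0 => hπ.ne_zero (IsFractionRing.injective A K (h0.trans (map_zero _).symm))
  have hzi : IsIntegral K z := Algebra.IsIntegral.isIntegral z
  have hzs : IsSeparable K z := by
    have hsep : (X ^ e - C (algebraMap A K π) : K[X]).Separable :=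
      separable_X_pow_sub_C _ (natCast_ne_zero_of_residue he') hπK
    refine hsep.of_dvd (minpoly.dvd K z ?_)
    rw [map_sub, map_pow, aeval_X, aeval_C, hz, sub_self]
  haveI : FiniteDimensional K σ.fieldRange := σ.toLinearMap.finiteDimensional_range
  haveI : Algebra.IsSeparable K σ.fieldRange :=
    Algebra.IsSeparable.of_algHom K L (AlgEquiv.ofInjectiveField σ).symm.toAlgHom
  haveI : FiniteDimensional K (IntermediateField.adjoin K ({z} : Set Ω)) := IntermediateField.adjoin.finiteDimensional hzi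
  haveI : Algebra.IsSeparable K (IntermediateField.adjoin K ({z} : Set Ω)) :=
    (IntermediateField.isSeparable_adjoin_simple_iff_isSeparable _ _).2 hzs
  let L' := σ.fieldRange ⊔ IntermediateField.adjoin K ({z} : Set Ω)
  let σ' : L →ₐ[K] L' := (IntermediateField.inclusion le_sup_left).comp σ.rangeRestrict
  let z' : L' := ⟨z, (le_sup_right : IntermediateField.adjoin K ({z} : Set Ω) ≤ L') (IntermediateField.subset_adjoin K _ rfl)⟩
  set g : A →+* L' := (algebraMap K L').comp (algebraMap A K) with hg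
  have hz' : z' ^ e = g π := Subtype.ext hz
  let lift : AdjoinRoot (X ^ e - C π : A[X]) →+* L' :=
    AdjoinRoot.lift g z' (by rw [eval₂_sub, eval₂_pow, eval₂_X, eval₂_C, hz', sub_self])
  letI : Algebra (AdjoinRoot (X ^ e - C π : A[X])) L' := lift.toAlgebra
  have hgdef : ∀ a, g a = lift (AdjoinRoot.of _ a) := fun a => by
    simp only [lift, AdjoinRoot.lift_of]
  refine ⟨L', inferInstance, inferInstance, inferInstance, σ', inferInstance, inferInstance,
    RingHom.ext fun a => (hgdef a).symm, fun {_} V hd hloc => ?_⟩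
  have hmA : ∀ a ∈ maximalIdeal A,
      AdjoinRoot.of (X ^ e - C π : A[X]) a ∈ maximalIdeal (AdjoinRoot (X ^ e - C π : A[X])) := by
    intro a ha
    rw [hπ.maximalIdeal_eq, Ideal.mem_span_singleton'] at ha
    obtain ⟨c, rfl⟩ := ha
    rw [map_mul, ← root_pow π e, span_root_eq_of_isMaximal hπ he (maximalIdeal _)]
    exact Ideal.mul_mem_left _ _ (Ideal.pow_mem_of_mem _ (Ideal.mem_span_singleton_self _) e he)
  have hdA : EtRam.Dominates A g V :=
    ⟨fun a => hgdef a ▸ hd.1 _, fun a ha => hgdef a ▸ hd.2 _ (hmA a ha)⟩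
  haveI := isDVR_of_finite K hdA
  have hgσ : (σ' : L →+* L').comp ((algebraMap K L).comp (algebraMap A K)) = g :=
    RingHom.ext fun a => σ'.commutes _
  have hdL := (dominates_comap (σ' : L →+* L')).2 (hgσ.symm ▸ hdA)
  haveI := isDVR_of_finite K hdL
  have hπV : algebraMap K L (algebraMap A K π) ∈ V.comap (σ' : L →+* L') := hdL.1 π
  obtain ⟨ϖ, hϖ⟩ := IsDiscreteValuationRing.exists_irreducible (V.comap (σ' : L →+* L'))
  obtain ⟨n, u, hu⟩ := IsDiscreteValuationRing.eq_unit_mul_pow_irreducible
    (show (⟨_, hπV⟩ : V.comap (σ' : L →+* L')) ≠ 0 from fun h0 =>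
      hπK ((algebraMap K L).injective ((congrArg Subtype.val h0).trans (map_zero _).symm))) hϖ
  have hn : Idx (V.comap (σ' : L →+* L')) ((algebraMap K L).comp (algebraMap A K)) n := by
    refine ⟨π, ϖ, hπ, uni_of_irreducible hϖ, ?_⟩
    rw [show ((algebraMap K L).comp (algebraMap A K)) π = ((u : V.comap (σ' : L →+* L')) : L) * (ϖ : L) ^ n from
      congrArg Subtype.val hu, map_mul, map_pow, ValuationSubring.valuation_unit, one_mul]
  obtain ⟨hsL, -⟩ := ht _ hdL
  have hne : n ∣ e := hdvd _ n hdL hn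
  have hgen : Subfield.closure (Set.range ((σ' : L →+* L').comp (V.comap (σ' : L →+* L')).subtype) ∪ {z'}) = ⊤ := by
    set T := Subfield.closure (Set.range ((σ' : L →+* L').comp (V.comap (σ' : L →+* L')).subtype) ∪ {z'})
    have hσ : ∀ x, σ' x ∈ T := fun x => mem_closure_valuationSubring (V.comap (σ' : L →+* L')) (σ' : L →+* L')
      (fun y hy => Subfield.subset_closure (Or.inl ⟨⟨y, hy⟩, rfl⟩)) x
    have hK : ∀ c : K, algebraMap K Ω c ∈ T.map L'.val.toRingHom := fun c =>
      ⟨_, hσ (algebraMap K L c), σ.commutes c⟩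
    let I : IntermediateField K Ω := (T.map L'.val.toRingHom).toIntermediateField hK
    have hle : L' ≤ I := sup_le (by rintro _ ⟨x, rfl⟩; exact ⟨σ' x, hσ x, rfl⟩)
      (IntermediateField.adjoin_le_iff.2 (by rintro _ rfl; exact ⟨z', Subfield.subset_closure (Or.inr rfl), rfl⟩))
    rw [eq_top_iff]
    rintro ⟨x, hx⟩ -
    obtain ⟨w, hw, hwx⟩ := hle hx
    exact (Subtype.ext hwx : w = ⟨x, hx⟩) ▸ hw
  obtain ⟨hs2, hi2⟩ := root (z := z') (e := e) (dominates_mid (σ' : L →+* L'))
    ((σ' : L →+* L').injective.comp Subtype.val_injective) hgen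
    ((residueNat_ne_zero hdL).2 he') hϖ u n (by
      rw [← hu, hz', hg]; exact (σ'.commutes _).symm)
  rw [Nat.gcd_eq_right hne] at hi2
  have hall : Idx V g e := by
    have h1 := Idx.trans (f := (σ' : L →+* L')) hn hi2
    rwa [hgσ, Nat.div_mul_cancel hne] at h1
  obtain ⟨t, ht'⟩ := exists_uni (W := V)
  have hvz : V.valuation z' = V.valuation t := by
    have h1 := hall.spec hdA hπ ht'
    rw [← hz', map_pow] at h1
    exact (pow_left_inj₀ zero_le zero_le he.ne').1 h1
  have hz'u : Uni V z' := ht'.of_eq hvz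
  have hsV : Sep V g := hgσ ▸ Sep.trans (hgσ.symm ▸ hdA) hsL hs2
  constructor
  · show _ = _
    rw [span_root_eq_of_isMaximal hπ he (maximalIdeal _), Ideal.map_span, Set.image_singleton, hz'u.irreducible.maximalIdeal_eq]
    congr 2
    exact Subtype.ext (AdjoinRoot.lift_root _)
  · letI : Algebra (AdjoinRoot (X ^ e - C π : A[X])) V := (RingHom.codRestrict lift V hd.1).toAlgebra
    haveI : IsLocalHom (algebraMap (AdjoinRoot (X ^ e - C π : A[X])) V) := hloc
    letI : Algebra A V := (g.codRestrict V hdA.1).toAlgebra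
    haveI : IsScalarTower A (AdjoinRoot (X ^ e - C π : A[X])) V :=
      IsScalarTower.of_algebraMap_eq fun a => Subtype.ext (hgdef a)
    haveI : IsLocalHom (algebraMap A (AdjoinRoot (X ^ e - C π : A[X]))) := ⟨fun a ha => by
      by_contra hn'
      exact (mem_maximalIdeal _).1 (hmA a ((mem_maximalIdeal _).2 hn')) ha⟩
    haveI : IsLocalHom (algebraMap A V) := ⟨fun a ha => by
      by_contra hn'
      exact (hdA.2 a ((mem_maximalIdeal _).2 hn')).ne ((V.valuation_eq_one_iff _).1 ha)⟩
    haveI : IsScalarTower (ResidueField A) (ResidueField (AdjoinRoot (X ^ e - C π : A[X]))) (ResidueField V) :=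
      IsScalarTower.of_algebraMap_eq fun x => by
        obtain ⟨a, rfl⟩ := residue_surjective x
        exact congrArg (residue V) (Subtype.ext (hgdef a))
    haveI := (sep_iff (g := g) fun a => rfl).1 hsV
    exact Algebra.isSeparable_tower_top_of_isSeparable (ResidueField A) _ _

/-- The converse direction. -/
theorem tameExt_of_unramified_root {L : Type u} [Field L] [Algebra K L] [FiniteDimensional K L]
    (hπ : Irreducible π) (he : 0 < e) (he' : (e : ResidueField A) ≠ 0)
    (L' : Type u) [Field L'] [Algebra K L'] [Algebra (AdjoinRoot (X ^ e - C π : A[X])) L'] (σ : L →ₐ[K] L')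
    [FiniteDimensional K L']
    (hcomp : (algebraMap (AdjoinRoot (X ^ e - C π : A[X])) L').comp (AdjoinRoot.of (X ^ e - C π)) =
        (algebraMap K L').comp (algebraMap A K))
    (hun : ∀ [IsLocalRing (AdjoinRoot (X ^ e - C π : A[X]))],
        EtRam.IsUnramifiedExt (AdjoinRoot (X ^ e - C π : A[X]))
          (algebraMap (AdjoinRoot (X ^ e - C π : A[X])) L')) : TameExt A K L := by
  haveI := isLocalRing_adjoinRoot hπ he
  haveI : Module.Finite A (AdjoinRoot (X ^ e - C π : A[X])) := (monic_X_pow_sub_C π he.ne').finite_adjoinRoot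
  refine TameExt.of_algHom σ fun W hW => ?_
  haveI := isDVR_of_finite K hW
  set g := (algebraMap K L').comp (algebraMap A K) with hg
  set lift := algebraMap (AdjoinRoot (X ^ e - C π : A[X])) L'
  have hof : ∀ a, lift (AdjoinRoot.of _ a) = g a := fun a => RingHom.congr_fun hcomp a
  have hroot : lift (AdjoinRoot.root (X ^ e - C π : A[X])) ^ e = g π := by rw [← map_pow, root_pow, hof]
  have hvπ : W.valuation (g π) < 1 := hW.2 π ((mem_maximalIdeal _).2 hπ.1)
  have hvz : W.valuation (lift (AdjoinRoot.root _)) < 1 := by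
    by_contra hn
    rw [← hroot, map_pow] at hvπ
    exact hvπ.not_ge (one_le_pow₀ (not_lt.1 hn))
  have hmem : ∀ x, lift x ∈ W := by
    intro x
    obtain ⟨P, rfl⟩ := AdjoinRoot.mk_surjective x
    induction P using Polynomial.induction_on' with
    | add p q hp hq => rw [map_add, map_add]; exact W.add_mem _ _ hp hq
    | monomial n a =>
      rw [← C_mul_X_pow_eq_monomial, map_mul, map_pow, AdjoinRoot.mk_C, AdjoinRoot.mk_X, map_mul, map_pow, hof]
      exact W.mul_mem _ _ (hW.1 a) (pow_mem (mem_of_lt hvz) n)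
  have hd : EtRam.Dominates (AdjoinRoot (X ^ e - C π : A[X])) lift W := by
    refine ⟨hmem, fun x hx => ?_⟩
    rw [span_root_eq_of_isMaximal hπ he (maximalIdeal _), Ideal.mem_span_singleton'] at hx
    obtain ⟨b, rfl⟩ := hx
    rw [map_mul, map_mul]
    exact lt_of_le_of_lt (mul_le_of_le_one_left' ((W.valuation_le_one_iff _).2 (hmem b))) hvz
  letI : Algebra (AdjoinRoot (X ^ e - C π : A[X])) W := (RingHom.codRestrict lift W hd.1).toAlgebra
  haveI : IsLocalHom (algebraMap (AdjoinRoot (X ^ e - C π : A[X])) W) := ⟨fun a ha => by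
    by_contra hn
    exact (hd.2 a ((mem_maximalIdeal _).2 hn)).ne ((W.valuation_eq_one_iff _).1 ha)⟩
  obtain ⟨h1, h2⟩ := hun W hd
  have hu : Uni W (lift (AdjoinRoot.root _)) := by
    have h1' : _ = maximalIdeal W := h1
    rw [span_root_eq_of_isMaximal hπ he (maximalIdeal _), Ideal.map_span, Set.image_singleton] at h1'
    exact uni_of_irreducible ((IsDiscreteValuationRing.irreducible_iff_uniformizer _).2 h1'.symm)
  refine ⟨?_, e, ⟨π, _, hπ, hu, by rw [← hroot, map_pow]⟩, he'⟩
  letI : Algebra A W := (g.codRestrict W hW.1).toAlgebra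
  haveI : IsScalarTower A (AdjoinRoot (X ^ e - C π : A[X])) W :=
    IsScalarTower.of_algebraMap_eq fun a => Subtype.ext (hof a).symm
  haveI : IsLocalHom (algebraMap A W) := ⟨fun a ha => by
    by_contra hn
    exact (hW.2 a ((mem_maximalIdeal _).2 hn)).ne ((W.valuation_eq_one_iff _).1 ha)⟩
  haveI : IsLocalHom (algebraMap A (AdjoinRoot (X ^ e - C π : A[X]))) := ⟨fun a ha => by
    by_contra hn
    refine (hW.2 a ((mem_maximalIdeal _).2 hn)).ne ?_
    exact (W.valuation_eq_one_iff ⟨g a, hW.1 a⟩).1 (by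
      have h := ha.map (algebraMap (AdjoinRoot (X ^ e - C π : A[X])) W)
      rwa [← IsScalarTower.algebraMap_apply] at h)⟩
  haveI : IsScalarTower (ResidueField A) (ResidueField (AdjoinRoot (X ^ e - C π : A[X]))) (ResidueField W) :=
    IsScalarTower.of_algebraMap_eq fun x => by
      obtain ⟨a, rfl⟩ := residue_surjective x
      exact congrArg (residue W) (Subtype.ext (hof a).symm)
  haveI : Algebra.IsSeparable (ResidueField A) (ResidueField (AdjoinRoot (X ^ e - C π : A[X]))) := ⟨fun x => by
    obtain ⟨x, rfl⟩ := residue_surjective x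
    obtain ⟨a, b, rfl⟩ := exists_add_root_mul π e x
    have hr : residue (AdjoinRoot (X ^ e - C π : A[X])) (AdjoinRoot.root (X ^ e - C π : A[X])) = 0 := by
      rw [IsLocalRing.residue_eq_zero_iff, span_root_eq_of_isMaximal hπ he (maximalIdeal _)]
      exact Ideal.mem_span_singleton_self _
    rw [map_add, map_mul, hr, zero_mul, add_zero]
    exact isSeparable_algebraMap (K := ResidueField (AdjoinRoot (X ^ e - C π : A[X]))) (residue A a)⟩
  haveI := h2
  exact (sep_iff (g := g) fun a => rfl).2
    (Algebra.IsSeparable.trans (ResidueField A) (ResidueField (AdjoinRoot (X ^ e - C π : A[X]))) (ResidueField W))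

/-- The exponent which works for all dominating valuation subrings at once. -/
theorem exists_uniform_exponent (A : Type u) [CommRing A] [IsLocalRing A] (N : ℕ) :
    ∃ e : ℕ, 0 < e ∧ (e : ResidueField A) ≠ 0 ∧ ∀ n, n ≤ N → (n : ResidueField A) ≠ 0 → n ∣ e := by
  classical
  let s := (Finset.range (N + 1)).filter fun n : ℕ => (n : ResidueField A) ≠ 0
  refine ⟨∏ n ∈ s, n, Nat.pos_of_ne_zero (Finset.prod_ne_zero_iff.2 fun n hn h0 => ?_), ?_, fun n hn h => ?_⟩
  · exact (Finset.mem_filter.1 hn).2 (by rw [h0, Nat.cast_zero])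
  · rw [Nat.cast_prod]
    exact Finset.prod_ne_zero_iff.2 fun n hn => (Finset.mem_filter.1 hn).2
  · exact Finset.dvd_prod_of_mem _ (Finset.mem_filter.2 ⟨Finset.mem_range.2 (by omega), h⟩)

theorem idx_le_finrank {L : Type u} [Field L] [Algebra K L] [FiniteDimensional K L] (V : ValuationSubring L)
    (hd : EtRam.Dominates A ((algebraMap K L).comp (algebraMap A K)) V) {n : ℕ}
    (hn : Idx V ((algebraMap K L).comp (algebraMap A K)) n) : n ≤ Module.finrank K L := by
  haveI := isDVR_of_finite K hd
  obtain ⟨π, t, hπ, ht, he⟩ := hn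
  by_contra hlt
  rw [not_le] at hlt
  set N := Module.finrank K L
  have hli : LinearIndependent K (fun i : Fin (N + 1) => t ^ (i : ℕ)) := by
    letI : Algebra A L := ((algebraMap K L).comp (algebraMap A K)).toAlgebra
    haveI : IsScalarTower A K L := IsScalarTower.of_algebraMap_eq' rfl
    rw [← LinearIndependent.iff_fractionRing A K]
    letI : Algebra A V := (((algebraMap K L).comp (algebraMap A K)).codRestrict V hd.1).toAlgebra
    haveI : IsLocalHom (algebraMap A V) := ⟨fun a ha => by
      by_contra hn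
      exact (hd.2 a ((mem_maximalIdeal _).2 hn)).ne ((V.valuation_eq_one_iff _).1 ha)⟩
    have hinj : Function.Injective (algebraMap A V) := fun x y h =>
      IsFractionRing.injective A K ((algebraMap K L).injective (congrArg Subtype.val h))
    have hidx : Ideal.ramificationIdx' (maximalIdeal A) (maximalIdeal V) = n := by
      haveI : IsLocalHom (((algebraMap K L).comp (algebraMap A K)).codRestrict V hd.1) := ‹IsLocalHom (algebraMap A V)›
      exact (idx_ramificationIdx hd ((algebraMap K L).injective.comp (IsFractionRing.injective A K))).unique hd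
        ⟨π, t, hπ, ht, he⟩
    have h1 := DVR7.linearIndependent_pow_mul hinj ht.irreducible (ι := Fin 1) (fun _ => (1 : V))
      (LinearIndependent.of_subsingleton (0 : Fin 1) (by simp))
    have h2 : LinearIndependent A (fun i : Fin (N + 1) => (⟨t, mem_of_lt ht.1⟩ : V) ^ (i : ℕ)) := by
      have := h1.comp (fun i : Fin (N + 1) => ((⟨i, by omega⟩ : Fin _), (0 : Fin 1))) fun i j hij =>
        Fin.ext (Fin.mk.inj_iff.1 (congrArg Prod.fst hij))
      simpa [Function.comp_def] using this
    haveI : IsScalarTower A V L := IsScalarTower.of_algebraMap_eq fun a => rfl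
    exact h2.map' (IsScalarTower.toAlgHom A V L).toLinearMap
      (LinearMap.ker_eq_bot.2 Subtype.val_injective)
  have := hli.fintype_card_le_finrank
  rw [Fintype.card_fin] at this
  omega

end Groth.Agent.EtRam46
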