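import Groth.Agent.EtRam46.LocalExt
import Groth.Agent.EtRam46.Root
import Groth.Agent.EtRam46.RootUnif
import Mathlib.RingTheory.Unramified.Field

/-!
# Totally ramified extensions
-/

set_option linter.style.haveILetI false
set_option linter.unusedSectionVars false

namespace Groth.Agent.EtRam46

open IsLocalRing TensorProduct Polynomial

universe u

variable {A : Type u} [CommRing A] [IsDomain A] [IsDiscreteValuationRing A] (K : Type u) [Field K]
  [Algebra A K] [IsFractionRing A K] {L : Type u} [Field L] [Algebra K L] [FiniteDimensional K L]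

/-- With a single place, the valuation ring is integral over the base. -/
theorem isIntegral_of_unique {V : ValuationSubring L}
    (huniq : ∀ V', EtRam.Dominates A ((algebraMap K L).comp (algebraMap A K)) V' → V' = V)
    [Algebra A L] [IsScalarTower A K L] {x : L} (hx : x ∈ V) : IsIntegral A x := by
  classical
  set g := (algebraMap K L).comp (algebraMap A K) with hg
  have hgA : algebraMap A L = g := IsScalarTower.algebraMap_eq A K L
  have key : ∀ V' : ValuationSubring L, Set.range g ⊆ V'.toSubring → x ∈ V' := by
    intro V' hV'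
    by_cases hd : EtRam.Dominates A g V'
    · rw [huniq V' hd]; exact hx
    have h1 : ∀ a, g a ∈ V' := fun a => hV' ⟨a, rfl⟩
    obtain ⟨a, ha, hva⟩ : ∃ a ∈ maximalIdeal A, V'.valuation (g a) = 1 := by
      by_contra hc
      push Not at hc
      exact hd ⟨h1, fun a ha => lt_of_le_of_ne ((V'.valuation_le_one_iff _).2 (h1 a)) (hc a ha)⟩
    -- the field `K` lies in `V'`
    have hK : ∀ y : K, algebraMap K L y ∈ V' := by
      obtain ⟨π, hπ⟩ := IsDiscreteValuationRing.exists_irreducible A
      have ha0 : a ≠ 0 := fun h => by rw [h, map_zero, map_zero] at hva; exact zero_ne_one hva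
      obtain ⟨n, u, rfl⟩ := IsDiscreteValuationRing.eq_unit_mul_pow_irreducible ha0 hπ
      have hn : n ≠ 0 := by
        rintro rfl
        rw [pow_zero, mul_one] at ha
        exact (mem_maximalIdeal _).1 ha u.isUnit
      have hπ1 : V'.valuation (g π) = 1 := by
        refine le_antisymm ((V'.valuation_le_one_iff _).2 (h1 π)) (not_lt.1 fun hlt => ?_)
        rw [map_mul, map_mul, map_pow, map_pow] at hva
        exact (lt_of_le_of_lt (mul_le_of_le_one_left' ((V'.valuation_le_one_iff _).2 (h1 u)))
          (pow_lt_one₀ zero_le hlt hn)).ne hva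
      intro y
      obtain ⟨b, d, hd0, rfl⟩ := IsFractionRing.div_surjective (A := A) y
      have hd0' : d ≠ 0 := nonZeroDivisors.ne_zero hd0
      obtain ⟨m, w, rfl⟩ := IsDiscreteValuationRing.eq_unit_mul_pow_irreducible hd0' hπ
      have hw : V'.valuation (g w) = 1 := by
        have h2 : g w * g ↑w⁻¹ = 1 := by rw [← map_mul, w.mul_inv, map_one]
        refine val_eq_one (h1 _) ?_ (left_ne_zero_of_mul_eq_one h2)
        rw [inv_eq_of_mul_eq_one_right h2]; exact h1 _
      have hden : V'.valuation (algebraMap K L (algebraMap A K (↑w * π ^ m))) = 1 := by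
        show V'.valuation (g (↑w * π ^ m)) = 1
        rw [map_mul, map_pow, map_mul, map_pow, hw, hπ1, one_pow, one_mul]
      rw [← V'.valuation_le_one_iff, map_div₀, map_div₀, hden, div_one]
      exact (V'.valuation_le_one_iff _).2 (h1 b)
    let iK : K →+* V' := (algebraMap K L).codRestrict V'.toSubring hK
    letI := iK.toAlgebra
    haveI : IsScalarTower K V' L := IsScalarTower.of_algebraMap_eq fun y => rfl
    obtain ⟨z, hz⟩ := IsIntegrallyClosed.isIntegral_iff.1
      ((Algebra.IsIntegral.isIntegral (R := K) x).tower_top (A := V'))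
    exact hz ▸ z.2
  have hmem : x ∈ (⨅ V' : {V' : ValuationSubring L // Set.range g ⊆ V'.toSubring}, V'.1.toSubring) :=
    Subring.mem_iInf.2 fun V' => key V'.1 V'.2
  rw [iInf_valuationSubring_superset] at hmem
  obtain ⟨P, hP, hP0⟩ := hmem
  have hcl : Subring.closure (Set.range g) = g.range := by rw [← RingHom.coe_range, Subring.closure_eq]
  have hlift : P.map (Subring.closure (Set.range g)).subtype ∈ lifts g := by
    rw [lifts_iff_coeff_lifts]
    intro i
    have := (P.coeff i).2
    rw [coeff_map]
    exact RingHom.mem_range.1 (hcl.le this)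
  obtain ⟨P', hP', -, hP'm⟩ := lifts_and_natDegree_eq_and_monic hlift (hP.map _)
  refine ⟨P', hP'm, ?_⟩
  rw [hgA, ← eval_map, hP', eval_map]
  exact hP0

/-- For a separable totally ramified extension the index is the degree. -/
theorem finrank_le_idx [Algebra.IsSeparable K L]
    (ht : EtRam.IsTotallyRamified A ((algebraMap K L).comp (algebraMap A K))) (V : ValuationSubring L)
    (hd : EtRam.Dominates A ((algebraMap K L).comp (algebraMap A K)) V) {n : ℕ}
    (hn : Idx V ((algebraMap K L).comp (algebraMap A K)) n) : Module.finrank K L ≤ n := by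
  classical
  haveI := isDVR_of_finite K hd
  set g := (algebraMap K L).comp (algebraMap A K) with hg
  letI : Algebra A L := g.toAlgebra
  haveI : IsScalarTower A K L := IsScalarTower.of_algebraMap_eq' rfl
  letI : Algebra A V := (g.codRestrict V hd.1).toAlgebra
  haveI : IsScalarTower A V L := IsScalarTower.of_algebraMap_eq fun a => rfl
  have hint : ∀ x ∈ V, IsIntegral A x := fun x hx => isIntegral_of_unique K (fun V' h => ht.2.1 V' V h hd) hx
  let ι : V →ₗ[A] integralClosure A L :=
    { toFun := fun x => ⟨x, hint x x.2⟩
      map_add' := fun _ _ => rfl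
      map_smul' := fun a x => Subtype.ext (by
        show ((a • x : V) : L) = a • ((x : V) : L)
        rw [Algebra.smul_def, Algebra.smul_def]; rfl) }
  haveI : Module.Finite A (integralClosure A L) := IsIntegralClosure.finite A K L _
  haveI : IsNoetherian A (integralClosure A L) := isNoetherian_of_isNoetherianRing_of_finite A _
  haveI : Module.Finite A V := Module.Finite.of_injective ι fun x y h => Subtype.ext (show ((ι x : integralClosure A L) : L) = ι y by rw [h])
  obtain ⟨π, t, hπ, hu, he⟩ := hn
  let T : V := ⟨t, mem_of_lt hu.1⟩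
  have hT : Irreducible T := hu.irreducible
  let N : Submodule A V := Submodule.span A (Set.range fun i : Fin n => T ^ (i : ℕ))
  have hexp : ∀ m, m ≤ n → ∀ x : V, ∃ y : V, x - T ^ m * y ∈ N := by
    intro m
    induction m with
    | zero => exact fun _ x => ⟨x, by simp⟩
    | succ m ih =>
      intro hm x
      obtain ⟨y, hy⟩ := ih (by omega) x
      obtain ⟨a, ha⟩ := ht.2.2 V hd (residue V y)
      have hya : y - algebraMap A V a ∈ maximalIdeal V := by
        rw [← IsLocalRing.residue_eq_zero_iff, map_sub]
        exact sub_eq_zero.2 ha.symm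
      rw [hT.maximalIdeal_eq, Ideal.mem_span_singleton'] at hya
      obtain ⟨z, hz⟩ := hya
      refine ⟨z, ?_⟩
      rw [show x - T ^ (m + 1) * z = (x - T ^ m * y) + a • T ^ m by
        rw [Algebra.smul_def, pow_succ]; linear_combination (-(T ^ m)) * hz]
      exact add_mem hy (N.smul_mem a (Submodule.subset_span ⟨⟨m, by omega⟩, rfl⟩))
  have htop : (⊤ : Submodule A V) ≤ N ⊔ maximalIdeal A • ⊤ := by
    intro x _
    obtain ⟨y, hy⟩ := hexp n le_rfl x
    rw [show x = (x - T ^ n * y) + T ^ n * y by ring]
    refine Submodule.add_mem_sup hy ?_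
    obtain ⟨w, hw⟩ := (V.valuation_eq_iff _ _).1 ((map_pow V.valuation t n).trans he.symm)
    rw [show T ^ n * y = π • ((w : V) * y) from Subtype.ext (by
      show t ^ n * (y : L) = _
      rw [← hw, Algebra.smul_def]
      show ((w : V) : L) * g π * (y : L) = g π * (((w : V) : L) * (y : L))
      ring)]
    exact Submodule.smul_mem_smul ((mem_maximalIdeal _).2 hπ.1) Submodule.mem_top
  have hN : (⊤ : Submodule A V) ≤ N :=
    Submodule.le_of_le_smul_of_le_jacobson_bot Module.Finite.fg_top (maximalIdeal_le_jacobson _) htop
  have hspan : ⊤ ≤ Submodule.span K (Set.range fun i : Fin n => t ^ (i : ℕ)) := by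
    intro x _
    obtain ⟨a, ha0, hax⟩ := ((IsFractionRing.isAlgebraic_iff A K L).2
      (Algebra.IsAlgebraic.isAlgebraic (R := K) x)).exists_integral_multiple
    obtain ⟨z, hz⟩ := IsIntegrallyClosed.isIntegral_iff.1 (hax.tower_top (A := V))
    have hzN : z ∈ N := hN Submodule.mem_top
    have hmap : ((z : V) : L) ∈ Submodule.span A (Set.range fun i : Fin n => t ^ (i : ℕ)) := by
      have h' : (IsScalarTower.toAlgHom A V L).toLinearMap z ∈
          N.map (IsScalarTower.toAlgHom A V L).toLinearMap := Submodule.mem_map_of_mem hzN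
      rw [Submodule.map_span, ← Set.range_comp] at h'
      exact h'
    have hmem := Submodule.span_le_restrictScalars A K _ hmap
    rw [Submodule.restrictScalars_mem, show ((z : V) : L) = algebraMap V L z from rfl, hz,
      Algebra.smul_def, IsScalarTower.algebraMap_apply A K L, ← Algebra.smul_def] at hmem
    exact (Submodule.smul_mem_iff _ ((map_ne_zero_iff _ (IsFractionRing.injective A K)).2 ha0)).1 hmem
  have := finrank_range_le_card (R := K) (fun i : Fin n => t ^ (i : ℕ))
  rw [Set.finrank, top_unique hspan, finrank_top, Fintype.card_fin] at this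
  exact this

end Groth.Agent.EtRam46
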