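import Groth.Prelude.Def_EtRam
import Groth.Agent.KrullAki.Valuation
import Mathlib.FieldTheory.SeparableClosure
import Mathlib.RingTheory.IntegralClosure.IntegrallyClosed

/-!
# Valuation subrings dominating a discrete valuation ring

`Uni`, `Idx`, `Sep`: uniformizer, ramification index and residual separability of a valuation subring
along a ring map from a discrete valuation ring, all expressed inside the ambient field.
-/

set_option linter.style.haveILetI false
set_option linter.unusedSectionVars false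

namespace Groth.Agent.EtRam46

open IsLocalRing Polynomial

universe u

variable {M : Type u} [Field M] (W : ValuationSubring M)

/-- `t` is a uniformizer of `W`. -/
def Uni (t : M) : Prop :=
  W.valuation t < 1 ∧ t ≠ 0 ∧ ∀ x, W.valuation x < 1 → W.valuation x ≤ W.valuation t

variable {W}

theorem residue_eq_zero_iff (x : W) : residue W x = 0 ↔ W.valuation x < 1 := by
  rw [IsLocalRing.residue_eq_zero_iff, ValuationSubring.valuation_lt_one_iff]

theorem val_eq_one {x : M} (hx : x ∈ W) (hx' : x⁻¹ ∈ W) (h0 : x ≠ 0) : W.valuation x = 1 := by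
  refine le_antisymm ((W.valuation_le_one_iff x).2 hx) ?_
  have h := (W.valuation_le_one_iff _).2 hx'
  rw [map_inv₀] at h
  exact (inv_le_one₀ (zero_lt_iff.2 ((Valuation.ne_zero_iff _).2 h0))).1 h

theorem mem_of_lt {x : M} (h : W.valuation x < 1) : x ∈ W := (W.valuation_le_one_iff x).1 h.le

theorem Uni.val_eq {t t' : M} (h : Uni W t) (h' : Uni W t') : W.valuation t = W.valuation t' :=
  le_antisymm (h'.2.2 t h.1) (h.2.2 t' h'.1)

theorem Uni.of_eq {t t' : M} (h : Uni W t) (he : W.valuation t' = W.valuation t) : Uni W t' :=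
  ⟨he ▸ h.1, (Valuation.ne_zero_iff _).1 (he ▸ (Valuation.ne_zero_iff _).2 h.2.1), fun x hx => he ▸ h.2.2 x hx⟩

theorem uni_of_irreducible [IsDiscreteValuationRing W] {ϖ : W} (h : Irreducible ϖ) : Uni W ϖ := by
  refine ⟨(W.valuation_lt_one_iff ϖ).1 ((mem_maximalIdeal _).2 h.1), fun he => h.ne_zero (Subtype.ext he), fun x hx => ?_⟩
  have hm : (⟨x, mem_of_lt hx⟩ : W) ∈ maximalIdeal W := (W.valuation_lt_one_iff _).2 hx
  rw [h.maximalIdeal_eq, Ideal.mem_span_singleton'] at hm
  obtain ⟨c, hc⟩ := hm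
  rw [show x = (c : M) * (ϖ : M) from (congrArg Subtype.val hc).symm, map_mul]
  exact mul_le_of_le_one_left' (W.valuation_le_one c)

theorem exists_uni [IsDiscreteValuationRing W] : ∃ t, Uni W t :=
  let ⟨ϖ, h⟩ := IsDiscreteValuationRing.exists_irreducible W
  ⟨ϖ, uni_of_irreducible h⟩

theorem Uni.irreducible [IsDiscreteValuationRing W] {t : M} (h : Uni W t) :
    Irreducible (⟨t, mem_of_lt h.1⟩ : W) := by
  obtain ⟨ϖ, hϖ⟩ := IsDiscreteValuationRing.exists_irreducible W
  obtain ⟨a, ha⟩ := (W.valuation_eq_iff _ _).1 (h.val_eq (uni_of_irreducible hϖ))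
  have he : (⟨t, mem_of_lt h.1⟩ : W) = a * ϖ := Subtype.ext ha.symm
  rw [he]
  exact (irreducible_units_mul a).2 hϖ

theorem Uni.exists_pow [IsDiscreteValuationRing W] {t : M} (h : Uni W t) {x : M} (hx : x ∈ W) (hx0 : x ≠ 0) :
    ∃ n : ℕ, W.valuation x = W.valuation t ^ n := by
  obtain ⟨n, a, ha⟩ := IsDiscreteValuationRing.eq_unit_mul_pow_irreducible
    (show (⟨x, hx⟩ : W) ≠ 0 from fun he => hx0 (congrArg Subtype.val he)) h.irreducible
  refine ⟨n, ?_⟩
  rw [show x = ((a : W) : M) * t ^ n from congrArg Subtype.val ha, map_mul, map_pow, W.valuation_unit, one_mul]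

theorem pow_le_pow_iff {t : M} (h1 : W.valuation t < 1) (h0 : t ≠ 0) {m n : ℕ} :
    W.valuation t ^ m ≤ W.valuation t ^ n ↔ n ≤ m :=
  (pow_right_strictAnti₀ (zero_lt_iff.2 ((Valuation.ne_zero_iff _).2 h0)) h1).le_iff_ge

theorem pow_inj {t : M} (h1 : W.valuation t < 1) (h0 : t ≠ 0) {m n : ℕ}
    (h : W.valuation t ^ m = W.valuation t ^ n) : m = n :=
  le_antisymm ((pow_le_pow_iff h1 h0).1 h.ge) ((pow_le_pow_iff h1 h0).1 h.le)

theorem pow_lt_one_iff {t : M} (h1 : W.valuation t < 1) (h0 : t ≠ 0) {n : ℕ} :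
    W.valuation t ^ n < 1 ↔ n ≠ 0 := by
  conv_lhs => rw [← pow_zero (W.valuation t)]
  rw [← not_le, pow_le_pow_iff h1 h0]
  omega

/-! ### Pulling back along a field map -/

section Comap

variable {E : Type u} [Field E] (f : E →+* M)

theorem comap_le_one_iff (x : E) : (W.comap f).valuation x ≤ 1 ↔ W.valuation (f x) ≤ 1 := by
  rw [ValuationSubring.valuation_le_one_iff, ValuationSubring.valuation_le_one_iff]
  exact Iff.rfl

theorem comap_lt_one_iff (x : E) : (W.comap f).valuation x < 1 ↔ W.valuation (f x) < 1 := by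
  rw [← ValuationSubring.mem_nonunits_iff, ← ValuationSubring.mem_nonunits_iff,
    ValuationSubring.mem_nonunits_iff_or, ValuationSubring.mem_nonunits_iff_or,
    map_eq_zero, ← map_inv₀]
  exact Iff.rfl

theorem comap_le_iff (x y : E) :
    (W.comap f).valuation x ≤ (W.comap f).valuation y ↔ W.valuation (f x) ≤ W.valuation (f y) := by
  rcases eq_or_ne y 0 with rfl | hy
  · simp [Valuation.zero_iff]
  have hy' : (W.comap f).valuation y ≠ 0 := (Valuation.ne_zero_iff _).2 hy
  have hfy : W.valuation (f y) ≠ 0 := (Valuation.ne_zero_iff _).2 ((map_ne_zero f).2 hy)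
  rw [← div_le_one₀ (zero_lt_iff.2 hy'), ← div_le_one₀ (zero_lt_iff.2 hfy), ← map_div₀, ← map_div₀,
    comap_le_one_iff, map_div₀]

theorem comap_eq_iff (x y : E) :
    (W.comap f).valuation x = (W.comap f).valuation y ↔ W.valuation (f x) = W.valuation (f y) := by
  simp only [le_antisymm_iff, comap_le_iff]

/-- A restriction of a discrete valuation subring which is not trivial is discrete. -/
theorem isDVR_comap [IsDiscreteValuationRing W] {x₀ : E} (h : W.valuation (f x₀) < 1) (h0 : x₀ ≠ 0) :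
    IsDiscreteValuationRing (W.comap f) := by
  classical
  obtain ⟨t, ht⟩ := exists_uni (W := W)
  have hex : ∃ n : ℕ, n ≠ 0 ∧ ∃ x : E, W.valuation (f x) = W.valuation t ^ n := by
    obtain ⟨n, hn⟩ := ht.exists_pow (mem_of_lt h) ((map_ne_zero f).2 h0)
    exact ⟨n, (pow_lt_one_iff ht.1 ht.2.1).1 (hn ▸ h), x₀, hn⟩
  obtain ⟨hd0, y, hy⟩ := Nat.find_spec hex
  set d := Nat.find hex
  have hy1 : (W.comap f).valuation y < 1 := by
    rw [comap_lt_one_iff, hy]; exact (pow_lt_one_iff ht.1 ht.2.1).2 hd0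
  have hy0 : y ≠ 0 := fun he => by
    rw [he, map_zero, map_zero] at hy
    exact pow_ne_zero d ((Valuation.ne_zero_iff _).2 ht.2.1) hy.symm
  let ϖ : W.comap f := ⟨y, mem_of_lt hy1⟩
  refine IsDiscreteValuationRing.ofHasUnitMulPowIrreducibleFactorization ⟨ϖ, ?_, ?_⟩
  · refine ⟨fun hu => hy1.ne ((((W.comap f).valuation_eq_one_iff ϖ).1 hu)), fun a b hab => ?_⟩
    by_contra hn
    push Not at hn
    have hnu : ∀ c : W.comap f, ¬ IsUnit c → W.valuation (f c) < 1 := fun c hc =>
      (comap_lt_one_iff f _).1 (((W.comap f).valuation_lt_one_iff c).1 ((mem_maximalIdeal c).2 hc))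
    have hval : ∀ c : W.comap f, ¬ IsUnit c → c ≠ 0 → ∃ n, d ≤ n ∧ W.valuation (f c) = W.valuation t ^ n := by
      intro c hc hc0
      obtain ⟨n, hn'⟩ := ht.exists_pow (mem_of_lt (hnu c hc)) ((map_ne_zero f).2 (Subtype.coe_ne_coe.2 hc0))
      exact ⟨n, Nat.find_le ⟨(pow_lt_one_iff ht.1 ht.2.1).1 (hn' ▸ hnu c hc), c, hn'⟩, hn'⟩
    have hab' : y = (a : E) * (b : E) := congrArg Subtype.val hab
    obtain ⟨n, hn1, hn2⟩ := hval a hn.1 fun he => hy0 (by rw [hab', he]; simp)
    obtain ⟨m, hm1, hm2⟩ := hval b hn.2 fun he => hy0 (by rw [hab', he]; simp)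
    rw [hab', map_mul, map_mul, hn2, hm2, ← pow_add] at hy
    have := pow_inj ht.1 ht.2.1 hy
    omega
  · intro c hc
    have hc0 : (c : E) ≠ 0 := fun he => hc (Subtype.ext he)
    obtain ⟨n, hn⟩ := ht.exists_pow (x := f c) c.2 ((map_ne_zero f).2 hc0)
    have hr : n % d = 0 := by
      by_contra hr
      have := Nat.find_le (h := hex) (n := n % d) ⟨hr, (c : E) / y ^ (n / d), by
        rw [map_div₀, map_div₀, map_pow, map_pow, hn, hy, ← pow_mul, div_eq_iff
          (pow_ne_zero _ ((Valuation.ne_zero_iff _).2 ht.2.1)), ← pow_add, Nat.mod_add_div]⟩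
      exact absurd this (not_le.2 (Nat.mod_lt _ (Nat.pos_of_ne_zero hd0)))
    have hv : (W.comap f).valuation (y ^ (n / d)) = (W.comap f).valuation c := by
      rw [comap_eq_iff, map_pow, map_pow, hy, hn, ← pow_mul, Nat.mul_div_cancel' (Nat.dvd_of_mod_eq_zero hr)]
    obtain ⟨a, ha⟩ := ((W.comap f).valuation_eq_iff _ _).1 hv
    exact ⟨n / d, ⟨a⁻¹, Subtype.ext (show y ^ (n / d) * _ = _ by
      rw [← ha, mul_assoc, mul_comm (c : E), ← mul_assoc]
      have : ((a : W.comap f) : E) * ((a⁻¹ : (W.comap f)ˣ) : W.comap f) = 1 := congrArg Subtype.val a.mul_inv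
      rw [this, one_mul])⟩⟩

end Comap

/-! ### Index and separability over a discrete valuation ring -/

variable (W) {A : Type u} [CommRing A] [IsDomain A] [IsDiscreteValuationRing A]

/-- The ramification index of `W` over `A`. -/
def Idx (g : A →+* M) (n : ℕ) : Prop :=
  ∃ (π : A) (t : M), Irreducible π ∧ Uni W t ∧ W.valuation (g π) = W.valuation t ^ n

/-- Every residue of `W` is separable over the residue field of `A`. -/
def Sep (g : A →+* M) : Prop :=
  ∀ x ∈ W, ∃ P : A[X], P.Monic ∧ (P.map (residue A)).Separable ∧ W.valuation (P.eval₂ g x) < 1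

/-- `W` is tamely ramified over `A`. -/
def Tame (g : A →+* M) : Prop :=
  Sep W g ∧ ∃ n : ℕ, Idx W g n ∧ (n : ResidueField A) ≠ 0

/-- `W` is unramified over `A`. -/
def Unram (g : A →+* M) : Prop := Sep W g ∧ Idx W g 1

variable {W} {g : A →+* M}

theorem Unram.tame (h : Unram W g) : Tame W g := ⟨h.1, 1, h.2, by simp⟩

theorem val_map_unit (hd : EtRam.Dominates A g W) (a : Aˣ) : W.valuation (g a) = 1 := by
  have h : g a * g ((a⁻¹ : Aˣ) : A) = 1 := by rw [← map_mul, a.mul_inv, map_one]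
  refine val_eq_one (hd.1 _) ?_ (left_ne_zero_of_mul_eq_one h)
  rw [inv_eq_of_mul_eq_one_right h]
  exact hd.1 _

theorem val_lt_one_iff (hd : EtRam.Dominates A g W) (a : A) :
    W.valuation (g a) < 1 ↔ a ∈ maximalIdeal A := by
  refine ⟨fun h => ?_, hd.2 a⟩
  by_contra hn
  obtain ⟨u, rfl⟩ := IsLocalRing.notMem_maximalIdeal.1 hn
  exact h.ne (val_map_unit hd u)

theorem val_irreducible_eq (hd : EtRam.Dominates A g W) {π π' : A} (h : Irreducible π) (h' : Irreducible π') :
    W.valuation (g π) = W.valuation (g π') := by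
  obtain ⟨u, rfl⟩ := IsDiscreteValuationRing.associated_of_irreducible A h h'
  rw [map_mul, map_mul, val_map_unit hd u, mul_one]

theorem Idx.spec (hd : EtRam.Dominates A g W) {n : ℕ} (h : Idx W g n) {π : A} (hπ : Irreducible π) {t : M}
    (ht : Uni W t) : W.valuation (g π) = W.valuation t ^ n := by
  obtain ⟨π', t', hπ', ht', he⟩ := h
  rw [val_irreducible_eq hd hπ hπ', he, ht.val_eq ht']

theorem Idx.unique (hd : EtRam.Dominates A g W) {m n : ℕ} (hm : Idx W g m) (hn : Idx W g n) : m = n := by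
  obtain ⟨π, t, hπ, ht, he⟩ := hn
  exact pow_inj ht.1 ht.2.1 ((hm.spec hd hπ ht).symm.trans he)

theorem exists_idx [IsDiscreteValuationRing W] (hd : EtRam.Dominates A g W) (hg : Function.Injective g) :
    ∃ n, n ≠ 0 ∧ Idx W g n := by
  obtain ⟨π, hπ⟩ := IsDiscreteValuationRing.exists_irreducible A
  obtain ⟨t, ht⟩ := exists_uni (W := W)
  have h1 := hd.2 π ((mem_maximalIdeal _).2 hπ.1)
  obtain ⟨n, hn⟩ := ht.exists_pow (mem_of_lt h1) (fun he => hπ.ne_zero (hg (he.trans (map_zero g).symm)))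
  exact ⟨n, (pow_lt_one_iff ht.1 ht.2.1).1 (hn ▸ h1), π, t, hπ, ht, hn⟩

/-! ### Separability through the residue fields -/

section Residue

variable [Algebra A W] [IsLocalHom (algebraMap A W)]

theorem residue_eval (hg : ∀ a, g a = ((algebraMap A W a : W) : M)) (x : W) (P : A[X]) :
    W.valuation (P.eval₂ g x) < 1 ↔ aeval (residue W x) (P.map (residue A)) = 0 := by
  have hc : g = W.subtype.comp (algebraMap A W) := RingHom.ext hg
  have h1 : P.eval₂ g x = ((P.eval₂ (algebraMap A W) x : W) : M) := by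
    rw [hc]; exact (hom_eval₂ _ _ W.subtype _).symm
  rw [h1, ← residue_eq_zero_iff, hom_eval₂, aeval_def, eval₂_map]
  rfl

/-- An element whose residue is a root of a separable polynomial, expressed in `M`. -/
theorem isSeparable_residue_iff (hg : ∀ a, g a = ((algebraMap A W a : W) : M)) (x : W) :
    IsSeparable (ResidueField A) (residue W x) ↔
      ∃ P : A[X], P.Monic ∧ (P.map (residue A)).Separable ∧ W.valuation (P.eval₂ g x) < 1 := by
  constructor
  · intro h
    obtain ⟨P, hP, -, hm⟩ := lifts_and_natDegree_eq_and_monic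
      (map_surjective _ residue_surjective (minpoly (ResidueField A) (residue W x))) (minpoly.monic h.isIntegral)
    refine ⟨P, hm, ?_, ?_⟩
    · rw [hP]; exact h
    · rw [residue_eval hg, hP, minpoly.aeval]
  · rintro ⟨P, -, hs, hv⟩
    exact hs.of_dvd (minpoly.dvd _ _ ((residue_eval hg x P).1 hv))

theorem sep_iff (hg : ∀ a, g a = ((algebraMap A W a : W) : M)) :
    Sep W g ↔ Algebra.IsSeparable (ResidueField A) (ResidueField W) := by
  refine ⟨fun h => ⟨fun x => ?_⟩, fun h x hx => (isSeparable_residue_iff hg ⟨x, hx⟩).1 (h.isSeparable' _)⟩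
  obtain ⟨x, rfl⟩ := residue_surjective x
  exact (isSeparable_residue_iff hg x).2 (h x x.2)

end Residue

end Groth.Agent.EtRam46
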